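import Groth.Agent.PerfExt.Algebra
import Groth.Agent.CohDerLib.Kosz.Geom
import Groth.Agent.KFlat.QCohModel
import Groth.Agent.KFlat.TildePerfect
import Groth.Agent.KFlat.TildeExact
import Groth.Agent.PerfTri.Perfect
import Groth.Agent.PCohD.Basic
import Groth.Agent.S7240

/-!
# `D_QCoh` of an affine scheme as `D(A)`
-/

set_option autoImplicit false

universe u

open CategoryTheory CategoryTheory.Limits AlgebraicGeometry Pretriangulated TopologicalSpace
open Groth.Agent.CohDerLib.Kosz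
open Groth.Agent.PerfTri.Nullhom (resC resCompIso)
open Groth.Agent.PerfTri

attribute [local instance] HasDerivedCategory.standard

noncomputable section

namespace Groth.Agent.PerfExt

/-- restricting in two steps -/
def restrictDComp {U' U X : Scheme.{u}} (k : U' ⟶ U) (j : U ⟶ X) (j' : U' ⟶ X) [IsOpenImmersion k]
    [IsOpenImmersion j] [IsOpenImmersion j'] (h : k ≫ j = j') :
    DCoh.restrictD j ⋙ DCoh.restrictD k ≅ DCoh.restrictD j' :=
  Localization.liftNatIso DerivedCategory.Q (HomologicalComplex.quasiIso X.Modules (ComplexShape.up ℤ))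
    (DerivedCategory.Q ⋙ (DCoh.restrictD j ⋙ DCoh.restrictD k)) (resC j' ⋙ DerivedCategory.Q) _ _
    ((Functor.associator _ _ _).symm ≪≫
      Functor.isoWhiskerRight (Scheme.Modules.restrictFunctor j).mapDerivedCategoryFactors _ ≪≫
      Functor.associator _ _ _ ≪≫
      Functor.isoWhiskerLeft (resC j) (Scheme.Modules.restrictFunctor k).mapDerivedCategoryFactors ≪≫
      (Functor.associator _ _ _).symm ≪≫ Functor.isoWhiskerRight (resCompIso k j j' h) _)

/-- restricting along the identity -/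
def restrictDId (X : Scheme.{u}) : DCoh.restrictD (𝟙 X) ≅ 𝟭 (DCoh.D X) :=
  Localization.liftNatIso DerivedCategory.Q (HomologicalComplex.quasiIso X.Modules (ComplexShape.up ℤ))
    (DerivedCategory.Q ⋙ DCoh.restrictD (𝟙 X)) DerivedCategory.Q _ _
    ((Scheme.Modules.restrictFunctor (𝟙 X)).mapDerivedCategoryFactors ≪≫
      Functor.isoWhiskerRight (NatIso.mapHomologicalComplex Scheme.Modules.restrictFunctorId _ ≪≫
        Functor.mapHomologicalComplexIdIso _ _) _ ≪≫ Functor.leftUnitor _)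

/-- restriction along an isomorphism -/
def restrictDEquiv {X Y : Scheme.{u}} (e : X ≅ Y) : DCoh.D Y ≌ DCoh.D X :=
  CategoryTheory.Equivalence.mk (DCoh.restrictD e.hom) (DCoh.restrictD e.inv)
    ((restrictDComp e.inv e.hom (𝟙 _) e.inv_hom_id).trans (restrictDId Y)).symm
    ((restrictDComp e.hom e.inv (𝟙 _) e.hom_inv_id).trans (restrictDId X))

instance isEquivalence_restrictD {X Y : Scheme.{u}} (e : X ≅ Y) : (DCoh.restrictD e.hom).IsEquivalence :=
  (restrictDEquiv e).isEquivalence_functor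

theorem isQCohD_restrict {W X : Scheme.{u}} (j : W ⟶ X) [IsOpenImmersion j] {K : DCoh.D X}
    (hK : DCoh.IsQCohD K) : DCoh.IsQCohD ((DCoh.restrictD j).obj K) :=
  KFlat.QCohModel.isQCohD_of_iso
    ((Perfect.restrQ j _).symm ≪≫ (DCoh.restrictD j).mapIso (DerivedCategory.Q.objObjPreimageIso K))
    (KFlat.QCohModel.isQCohD_restrJ j
      (KFlat.QCohModel.isQCohD_of_iso (DerivedCategory.Q.objObjPreimageIso K).symm hK))

theorem isQCohD_of_isPerfect {X : Scheme.{u}} {K : DCoh.D X} (hK : DCoh.IsPerfect K) : DCoh.IsQCohD K :=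
  fun i => (Groth.Agent.S7240.result (i - 1) K (Groth.Agent.PCohD.pc_of_perfect hK (i - 1))).1 i (by omega)

theorem isPerfect_restrict {W X : Scheme.{u}} (j : W ⟶ X) [IsOpenImmersion j] {K : DCoh.D X}
    (hK : DCoh.IsPerfect K) : DCoh.IsPerfect ((DCoh.restrictD j).obj K) := by
  refine (Perfect.near_iff _).mpr fun y => ?_
  obtain ⟨V, k, hk, hV, hsp⟩ := (Perfect.near_iff K).mp hK (j y)
  let O : W.Opens := j ⁻¹ᵁ k.opensRange
  let l := IsOpenImmersion.lift k (O.ι ≫ j) (by
    rintro _ ⟨z, rfl⟩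
    exact z.2)
  have : IsOpenImmersion l := by
    have : IsOpenImmersion (l ≫ k) := by rw [IsOpenImmersion.lift_fac]; infer_instance
    exact IsOpenImmersion.of_comp l k
  exact ⟨O, O.ι, inferInstance, ⟨⟨y, hV⟩, rfl⟩, Perfect.isSP_of_iso
    (Perfect.restrComp l k (O.ι ≫ j) (IsOpenImmersion.lift_fac _ _ _) K ≪≫
      (Perfect.restrComp O.ι j (O.ι ≫ j) rfl K).symm) (Perfect.isSP_restrict_hom hsp l)⟩

variable (X : Scheme.{u}) [IsAffine X]

instance tildeExact : PreservesFiniteLimits (tilde.functor (CommRingCat.of Γ(X, ⊤))) :=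
  KFlat.TildeExact.preservesFiniteLimits_tilde _

/-- `D(A) ⥤ D(X)` -/
abbrev T : DerivedCategory (ModuleCat.{u} Γ(X, ⊤)) ⥤ DCoh.D X :=
  DCoh.tildeD (CommRingCat.of Γ(X, ⊤)) ⋙ DCoh.restrictD X.isoSpec.hom

instance full_T : (T X).Full := by
  have := (KFlat.TildeD.full_faithful (R := CommRingCat.of Γ(X, ⊤))).1
  infer_instance

instance faithful_T : (T X).Faithful := by
  have := (KFlat.TildeD.full_faithful (R := CommRingCat.of Γ(X, ⊤))).2
  infer_instance

theorem exists_iso_T {K : DCoh.D X} (hK : DCoh.IsQCohD K) : ∃ M, Nonempty ((T X).obj M ≅ K) := by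
  obtain ⟨M, ⟨e⟩⟩ := KFlat.TildeD.exists_iso_of_isQCohD (R := CommRingCat.of Γ(X, ⊤))
    ((DCoh.restrictD X.isoSpec.inv).obj K) (isQCohD_restrict _ hK)
  exact ⟨M, ⟨(DCoh.restrictD X.isoSpec.hom).mapIso e ≪≫
    ((restrictDComp X.isoSpec.hom X.isoSpec.inv (𝟙 _) X.isoSpec.hom_inv_id).trans (restrictDId X)).app K⟩⟩

theorem isQCohD_T (M : DerivedCategory (ModuleCat.{u} Γ(X, ⊤))) : DCoh.IsQCohD ((T X).obj M) :=
  isQCohD_restrict _ (KFlat.TildeD.isQCohD_tildeD (R := CommRingCat.of Γ(X, ⊤)) M)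

theorem isPerfect_T_iff (M : DerivedCategory (ModuleCat.{u} Γ(X, ⊤))) :
    DCoh.IsPerfect ((T X).obj M) ↔ DRing.IsPerfect Γ(X, ⊤) M := by
  constructor
  · intro h
    exact KFlat.TildePerfect.isPerfect_of_tildeD (A := CommRingCat.of Γ(X, ⊤)) M
      (Perfect.isPerfect_of_iso (((restrictDComp X.isoSpec.inv X.isoSpec.hom (𝟙 _) X.isoSpec.inv_hom_id).trans
        (restrictDId _)).app _) (isPerfect_restrict X.isoSpec.inv h))
  · intro h
    exact isPerfect_restrict _ (KFlat.TildePerfect.isPerfect_tildeD (A := CommRingCat.of Γ(X, ⊤)) M h)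

theorem exists_isZero_iff (U : X.Opens) (hU : IsCompact (U : Set X)) :
    ∃ fs : List Γ(X, ⊤), ∀ Z, IsZero ((DCoh.restrictD U.ι).obj ((T X).obj Z)) ↔ ∀ g ∈ fs, HTors g Z := by
  classical
  let A := Γ(X, ⊤)
  let e := X.isoSpec
  let U' : (Spec (CommRingCat.of A)).Opens := e.inv ⁻¹ᵁ U
  have hc : IsCompact (U' : Set (Spec (CommRingCat.of A))) :=
    QuasiCompact.isCompact_preimage (f := e.inv) _ U.isOpen hU
  obtain ⟨s, hsf, hs⟩ := (isCompact_open_iff_eq_finite_iUnion_of_isTopologicalBasis _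
    PrimeSpectrum.isTopologicalBasis_basic_opens PrimeSpectrum.isCompact_basicOpen _).1 ⟨hc, U'.isOpen⟩
  let fs : List A := hsf.toFinset.toList
  have hfs : (Groth.Agent.CohDerLib.Kosz.U fs) = U' := by
    rw [Groth.Agent.CohDerLib.Kosz.U_eq]
    apply Opens.ext
    rw [Opens.coe_iSup]
    refine Eq.trans ?_ hs.symm
    ext p
    simp only [Set.mem_iUnion]
    constructor
    · rintro ⟨⟨a, ha⟩, hp⟩; exact ⟨a, by simpa [fs] using ha, hp⟩
    · rintro ⟨a, ha, hp⟩; exact ⟨⟨a, by simpa [fs] using ha⟩, hp⟩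
  refine ⟨fs, fun Z => ?_⟩
  let K := (DCoh.tildeD (CommRingCat.of A)).obj Z
  let W := Groth.Agent.CohDerLib.Kosz.U fs
  let l := IsOpenImmersion.lift W.ι (U.ι ≫ e.hom) (by
    rintro _ ⟨z, rfl⟩
    rw [Scheme.Opens.range_ι]
    refine (hfs.ge ?_ :)
    show e.inv (e.hom (U.ι z)) ∈ U
    rw [← Scheme.Hom.comp_apply, e.hom_inv_id]
    exact z.2)
  let l' := IsOpenImmersion.lift U.ι (W.ι ≫ e.inv) (by
    rintro _ ⟨z, rfl⟩
    rw [Scheme.Opens.range_ι]
    exact (hfs.le z.2 :))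
  have : IsOpenImmersion l := by
    have : IsOpenImmersion (l ≫ W.ι) := by rw [IsOpenImmersion.lift_fac]; infer_instance
    exact IsOpenImmersion.of_comp l W.ι
  have : IsOpenImmersion l' := by
    have : IsOpenImmersion (l' ≫ U.ι) := by rw [IsOpenImmersion.lift_fac]; infer_instance
    exact IsOpenImmersion.of_comp l' U.ι
  let c₁ : (DCoh.restrictD U.ι).obj ((T X).obj Z) ≅ (DCoh.restrictD l).obj ((DCoh.restrictD W.ι).obj K) :=
    (restrictDComp U.ι e.hom (U.ι ≫ e.hom) rfl).app K ≪≫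
      ((restrictDComp l W.ι (U.ι ≫ e.hom) (IsOpenImmersion.lift_fac _ _ _)).app K).symm
  constructor
  · intro h g hg
    refine hTors_of_isZero_restrictD fs ?_ hg
    refine ((DCoh.restrictD l').map_isZero h).of_iso ?_
    have h1 : l' ≫ U.ι ≫ e.hom = W.ι := by
      exact (Category.assoc _ _ _).symm.trans ((congrArg (· ≫ e.hom) (IsOpenImmersion.lift_fac _ _ _)).trans ((Category.assoc _ _ _).trans ((congrArg (W.ι ≫ ·) e.inv_hom_id).trans (Category.comp_id _))))
    exact ((restrictDComp l' (U.ι ≫ e.hom) W.ι h1).app K).symm ≪≫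
      (DCoh.restrictD l').mapIso ((restrictDComp U.ι e.hom (U.ι ≫ e.hom) rfl).app K).symm
  · intro h
    refine ((DCoh.restrictD l).map_isZero ?_).of_iso c₁
    have hz : ∀ i, IsZero ((DerivedCategory.homologyFunctor _ i).obj ((DCoh.restrictD W.ι).obj K)) := fun i =>
      (isZero_restrict_of_tors fs fun g hg x => h g hg i x).of_iso (homologyRestrictTildeIso fs _ i)
    have : IsIso (0 : (DCoh.restrictD W.ι).obj K ⟶ (DCoh.restrictD W.ι).obj K) := by
      rw [DerivedCategory.isIso_iff]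
      exact fun i => isIso_of_isInitial (hz i).isInitial (hz i).isInitial _
    rw [IsZero.iff_id_eq_zero]
    exact (cancel_epi (0 : (DCoh.restrictD W.ι).obj K ⟶ _)).1 (by simp)

end Groth.Agent.PerfExt
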