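import Groth.Agent.PerfExt.Affine
import Groth.Agent.KFlat.PerfectCompact
import Groth.Agent.DEq.AffineGen
import Groth.Agent.DRing.Compact
import Groth.Agent.DRing.ProjAmp
import Groth.Agent.CohDerLib.QC.PerfBound
import Groth.Agent.S1097
import Groth.Agent.S1011
import Groth.Agent.DTrunc.DerivedPushAdj

/-!
# Perfect objects of a quasi-compact open of an affine scheme extend up to `⊞ F[1]`
-/

set_option autoImplicit false

universe u

open CategoryTheory CategoryTheory.Limits AlgebraicGeometry Pretriangulated DerivedCategory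
open Groth.Agent.PerfTri

attribute [local instance] HasDerivedCategory.standard

noncomputable section

namespace Groth.Agent.PerfExt

variable {X : Scheme.{u}} [IsAffine X] (U : X.Opens) (hU : IsCompact (U : Set X))

/-- restrictions of perfect objects -/
def Ext (G : DCoh.D (U : Scheme.{u})) : Prop :=
  ∃ R : DCoh.D X, DCoh.IsPerfect R ∧ Nonempty ((DCoh.restrictD U.ι).obj R ≅ G)

/-- `D(A) ⥤ D(U)` -/
abbrev TU : DerivedCategory (ModuleCat.{u} Γ(X, ⊤)) ⥤ DCoh.D (U : Scheme.{u}) :=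
  T X ⋙ DCoh.restrictD U.ι

omit [IsAffine X] in
theorem ext_isPerfect {G : DCoh.D (U : Scheme.{u})} (h : Ext U G) : DCoh.IsPerfect G := by
  obtain ⟨R, hR, ⟨e⟩⟩ := h
  exact Perfect.isPerfect_of_iso e (isPerfect_restrict _ hR)

omit [IsAffine X] in
theorem ext_shift {G : DCoh.D (U : Scheme.{u})} (h : Ext U G) (n : ℤ) : Ext U (G⟦n⟧) := by
  obtain ⟨R, hR, ⟨e⟩⟩ := h
  exact ⟨R⟦n⟧, Perfect.isPerfect_shift hR n,
    ⟨((DCoh.restrictD U.ι).commShiftIso n).app R ≪≫ (shiftFunctor _ n).mapIso e⟩⟩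

include hU in
/-- the cone of a map of extendable objects is extendable -/
theorem ext_cone (S : Triangle (DCoh.D (U : Scheme.{u}))) (hS : S ∈ distinguishedTriangles)
    (h₁ : Ext U S.obj₁) (h₂ : Ext U S.obj₂) : Ext U S.obj₃ := by
  obtain ⟨E, hE, ⟨e⟩⟩ := h₁
  obtain ⟨E', hE', ⟨e'⟩⟩ := h₂
  obtain ⟨E₁, β, γ, hE₁, hβ, hγ⟩ := Groth.Agent.S1097.result X U hU E E' hE (isQCohD_of_isPerfect hE')
    (e.hom ≫ S.mor₁ ≫ e'.inv)
  obtain ⟨R, g, h, hT⟩ := distinguished_cocone_triangle γ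
  refine ⟨R, Perfect.isPerfect₃ _ hT hE₁ hE', ⟨?_⟩⟩
  have hT' := (DCoh.restrictD U.ι).map_distinguished _ hT
  refine Triangle.π₃.mapIso (isoTriangleOfIso₁₂ _ S hT' hS
    (@asIso _ _ _ _ _ hβ ≪≫ e) e' ?_)
  change (DCoh.restrictD U.ι).map γ ≫ e'.hom = ((DCoh.restrictD U.ι).map β ≫ e.hom) ≫ S.mor₁
  rw [← hγ]
  simp [Category.assoc]

omit [IsAffine X] in
theorem ext_of_iso {G G' : DCoh.D (U : Scheme.{u})} (e : G ≅ G') (h : Ext U G) : Ext U G' := by
  obtain ⟨R, hR, ⟨e'⟩⟩ := h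
  exact ⟨R, hR, ⟨e' ≪≫ e⟩⟩

theorem ext_TU {M : DerivedCategory (ModuleCat.{u} Γ(X, ⊤))} (hM : DRing.IsPerfect Γ(X, ⊤) M) :
    Ext U ((TU U).obj M) :=
  ⟨(T X).obj M, (isPerfect_T_iff X M).2 hM, ⟨Iso.refl _⟩⟩

/-- every map from a perfect object factors through an extendable one -/
def Factors (P : DerivedCategory (ModuleCat.{u} Γ(X, ⊤))) : Prop :=
  ∀ F : DCoh.D (U : Scheme.{u}), DCoh.IsPerfect F → ∀ f : F ⟶ (TU U).obj P,
    ∃ (G : DCoh.D (U : Scheme.{u})) (a : F ⟶ G) (b : G ⟶ (TU U).obj P), Ext U G ∧ a ≫ b = f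

theorem factors_of_iso {P P' : DerivedCategory (ModuleCat.{u} Γ(X, ⊤))} (e : P ≅ P') (h : Factors U P) :
    Factors U P' := fun F hF f => by
  obtain ⟨G, a, b, hG, hab⟩ := h F hF (f ≫ (TU U).map e.inv)
  refine ⟨G, a, b ≫ (TU U).map e.hom, hG, ?_⟩
  rw [← Category.assoc, hab, Category.assoc, ← Functor.map_comp]
  simp

theorem factors_isZero (P : DerivedCategory (ModuleCat.{u} Γ(X, ⊤))) (h : IsZero P) : Factors U P :=
  fun _ _ f => ⟨(TU U).obj P, f, 𝟙 _,
    ext_TU U (Groth.Agent.DRing.Perfect.perfect_of_isZero h), Category.comp_id _⟩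

include hU in
theorem factors_mid (S : Triangle (DerivedCategory (ModuleCat.{u} Γ(X, ⊤)))) (hS : S ∈ distinguishedTriangles)
    (h₁ : Factors U S.obj₁) (h₃ : Factors U S.obj₃) : Factors U S.obj₂ := fun F hF f => by
  have hS' := (TU U).map_distinguished _ hS
  let u₁ := (TU U).map S.mor₁
  let u₂ := (TU U).map S.mor₂
  obtain ⟨G₃, a, b₃, hG₃, hab⟩ := h₃ F hF (f ≫ u₂)
  obtain ⟨F', n, d, hF'⟩ := distinguished_cocone_triangle₁ a
  obtain ⟨g, hg⟩ : ∃ g : F' ⟶ (TU U).obj S.obj₁, n ≫ f = g ≫ u₁ :=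
    Triangle.coyoneda_exact₂ _ hS' (n ≫ f) ((Category.assoc n f u₂).trans
      ((congrArg (n ≫ ·) hab.symm).trans ((Category.assoc n a b₃).symm.trans
        ((congrArg (· ≫ b₃) (comp_distTriang_mor_zero₁₂ _ hF')).trans zero_comp))))
  obtain ⟨G₁, a', b₁, hG₁, hab'⟩ := h₁ F' (Perfect.isPerfect₁ _ hF' hF (ext_isPerfect U hG₃)) g
  obtain ⟨G, v, w, hG⟩ := distinguished_cocone_triangle₂ (d ≫ a'⟦(1 : ℤ)⟧')
  have hGext : Ext U G :=
    ext_cone U hU _ (inv_rot_of_distTriang _ hG) (ext_shift U hG₃ (-1)) hG₁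
  obtain ⟨p, hp₁, hp₂⟩ : ∃ p : F ⟶ G, n ≫ p = a' ≫ v ∧ a ≫ 𝟙 G₃ = p ≫ w :=
    complete_distinguished_triangle_morphism₂ _ _ hF' hG a' (𝟙 G₃) (Category.id_comp _).symm
  obtain ⟨h, hh⟩ : ∃ h : G ⟶ (TU U).obj S.obj₂, b₁ ≫ u₁ = v ≫ h := by
    have h0 : (d ≫ a'⟦(1 : ℤ)⟧') ≫ (b₁ ≫ u₁)⟦(1 : ℤ)⟧' = 0 := by
      rw [Category.assoc, ← Functor.map_comp, ← Category.assoc a', hab', ← hg, Functor.map_comp]
      exact (Category.assoc d _ _).symm.trans
        ((congrArg (· ≫ f⟦(1 : ℤ)⟧') (comp_distTriang_mor_zero₃₁ _ hF')).trans zero_comp)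
    obtain ⟨g', hg'⟩ := Triangle.yoneda_exact₃ _ (rot_of_distTriang _ hG) ((b₁ ≫ u₁)⟦(1 : ℤ)⟧') h0
    obtain ⟨h', rfl⟩ := (shiftFunctor (DCoh.D (U : Scheme.{u})) (1 : ℤ)).map_surjective g'
    refine ⟨-h', (shiftFunctor (DCoh.D (U : Scheme.{u})) (1 : ℤ)).map_injective (hg'.trans ?_)⟩
    change (-v⟦(1 : ℤ)⟧') ≫ h'⟦(1 : ℤ)⟧' = _
    exact ((Preadditive.neg_comp _ _).trans ((Preadditive.comp_neg _ _).symm.trans
      (congrArg (v⟦(1 : ℤ)⟧' ≫ ·) (Functor.map_neg _).symm))).trans (Functor.map_comp _ _ _).symm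
  obtain ⟨k, hk⟩ : ∃ k : G₃ ⟶ (TU U).obj S.obj₂, f - p ≫ h = a ≫ k := by
    refine Triangle.yoneda_exact₂ _ hF' (f - p ≫ h) ?_
    change n ≫ (f - p ≫ h) = 0
    rw [Preadditive.comp_sub, sub_eq_zero, ← Category.assoc n p h, hp₁, hg, ← hab', Category.assoc,
      Category.assoc]
    exact congrArg (a' ≫ ·) hh
  refine ⟨G, p, h + w ≫ k, hGext, ?_⟩
  rw [Preadditive.comp_add, ← Category.assoc p w k, ← hp₂, Category.comp_id, ← hk, add_sub_cancel]

theorem factors_sgl (hUc : CompactSpace (U : Scheme.{u})) (i : ℤ) (M : ModuleCat.{u} Γ(X, ⊤))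
    (hM : Module.Free Γ(X, ⊤) M) : Factors U (DRing.toD (Groth.Agent.DRing.PC.sgl i M)) := by
  classical
  let A := Γ(X, ⊤)
  obtain ⟨⟨I, bas⟩⟩ := hM.exists_basis
  refine factors_of_iso U (Groth.Agent.DRing.Devissage.sglMapIso i bas.repr.toModuleIso.symm) fun F hF f => ?_
  let sglF := HomologicalComplex.single (ModuleCat.{u} A) (ComplexShape.up ℤ) i
  let P := fun _ : I => ModuleCat.of A A
  let L := fun j : I => sglF.obj (P j)
  let c₀ : Cofan P := Cofan.mk (ModuleCat.of A (I →₀ A)) fun j => ModuleCat.ofHom (Finsupp.lsingle j)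
  have hc₀ : IsColimit c₀ := Cofan.IsColimit.mk _
    (fun s => ModuleCat.ofHom (Finsupp.linearCombination A fun j => (s.inj j).hom (1 : A)))
    (fun s j => ModuleCat.hom_ext (LinearMap.ext_ring ((Finsupp.linearCombination_single (R := A) (a := j) (c := (1 : A))).trans (one_smul _ _))))
    (fun s m hm => ModuleCat.hom_ext (Finsupp.lhom_ext' fun j => LinearMap.ext_ring
      ((congr($(hm j) (1 : A))).trans ((Finsupp.linearCombination_single (R := A) (v := fun j => (s.inj j).hom (1 : A)) (a := j) (c := (1 : A))).trans (one_smul _ _)).symm)))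
  have hc₁ : IsColimit (Cofan.mk (sglF.obj (ModuleCat.of A (I →₀ A))) fun j => sglF.map (c₀.inj j)) :=
    isColimitCofanMkObjOfIsColimit sglF _ _ hc₀
  obtain ⟨hQ⟩ := Groth.Agent.DRing.Compact.nonempty_isColimit_Q (R := A) L
  have hc₂ : IsColimit (Cofan.mk (DRing.toD (sglF.obj (ModuleCat.of A (I →₀ A))))
      fun j => Q.map (sglF.map (c₀.inj j))) := by
    refine hQ.ofIsoColimit (Cofan.ext (Q.mapIso ((coproductIsCoproduct L).coconePointUniqueUpToIso hc₁)) fun j => ?_)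
    refine (Q.map_comp _ _).symm.trans (congrArg (fun φ => Q.map φ) ?_)
    exact (coproductIsCoproduct L).comp_coconePointUniqueUpToIso_hom hc₁ ⟨j⟩
  have := Groth.Agent.DEq.AffineGen.isLeftAdjoint_restrictD U.ι
  have := Groth.Agent.DEq.AffineGen.isLeftAdjoint_restrictD X.isoSpec.hom
  have : (DCoh.tildeD (CommRingCat.of A)).IsLeftAdjoint :=
    Groth.Agent.IndCoh.isLeftAdjoint_mapDerivedCategory (tilde.functor (CommRingCat.of A))
  have hc₃ := isColimitCofanMkObjOfIsColimit (TU U) _ _ hc₂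
  have hGE : ∀ j, ((TU U).obj (DRing.toD (L j))).IsGE i := fun j => by
    rw [DerivedCategory.isGE_iff]
    intro k hk
    have : (DRing.toD (L j)).IsGE i :=
      @Triangulated.TStructure.isGE_of_iso _ _ _ _ _ _ _ DerivedCategory.TStructure.t _ _
        (((SingleFunctors.evaluation _ _ i).mapIso (singleFunctorsPostcompQIso (ModuleCat.{u} A))).app (P j)) i
        (inferInstanceAs (((singleFunctor (ModuleCat.{u} A) i).obj (P j)).IsGE i))
    exact (((Scheme.Modules.restrictFunctor U.ι).map_isZero ((Scheme.Modules.restrictFunctor X.isoSpec.hom).map_isZero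
      ((tilde.functor (CommRingCat.of A)).map_isZero (DerivedCategory.isZero_of_isGE (DRing.toD (L j)) i k hk)))).of_iso
      ((KFlat.MapHomology.iso (Scheme.Modules.restrictFunctor U.ι) k).app _ ≪≫
        (Scheme.Modules.restrictFunctor U.ι).mapIso ((KFlat.MapHomology.iso (Scheme.Modules.restrictFunctor X.isoSpec.hom) k).app _ ≪≫
          (Scheme.Modules.restrictFunctor X.isoSpec.hom).mapIso ((KFlat.MapHomology.iso (tilde.functor (CommRingCat.of A)) k).app _))))
  have : QuasiSeparatedSpace (U : Scheme.{u}) := U.ι.isOpenEmbedding.quasiSeparatedSpace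
  obtain ⟨S, t, ht⟩ := (KFlat.PerfectCompact.finSum_perfect F hF _ (Or.inr ⟨i, hGE⟩) _ hc₃).1 f
  let inc : ModuleCat.of A (S →₀ A) ⟶ ModuleCat.of A (I →₀ A) := ModuleCat.ofHom (Finsupp.lmapDomain A A Subtype.val)
  let emb : ∀ j, ModuleCat.of A A ⟶ ModuleCat.of A (S →₀ A) := fun j =>
    if h : j ∈ S then ModuleCat.ofHom (Finsupp.lsingle ⟨j, h⟩) else 0
  refine ⟨(TU U).obj (DRing.toD (sglF.obj (ModuleCat.of A (S →₀ A)))),
    ∑ j ∈ S, t j ≫ (TU U).map (Q.map (sglF.map (emb j))), (TU U).map (Q.map (sglF.map inc)), ext_TU U ?_, ?_⟩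
  · refine ⟨sglF.obj _, i, i, fun k hk => HomologicalComplex.isZero_single_obj_X _ _ _ _ (by omega), fun k => ?_,
      ⟨Iso.refl _⟩⟩
    by_cases hk : k = i
    · subst hk
      let e := (HomologicalComplex.singleObjXSelf (ComplexShape.up ℤ) k (ModuleCat.of A (S →₀ A))).symm.toLinearEquiv
      exact ⟨Module.Finite.equiv e, Module.Projective.of_equiv e⟩
    · have := ModuleCat.subsingleton_of_isZero
        (HomologicalComplex.isZero_single_obj_X (ComplexShape.up ℤ) i (ModuleCat.of A (S →₀ A)) k hk)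
      exact ⟨inferInstance, inferInstance⟩
  · rw [ht, Preadditive.sum_comp]
    refine Finset.sum_congr rfl fun j hj => ?_
    rw [Category.assoc]
    refine congrArg (t j ≫ ·) (((TU U).map_comp _ _).symm.trans (congrArg (fun φ => (TU U).map φ)
      ((Q.map_comp _ _).symm.trans (congrArg (fun φ => Q.map φ) ((sglF.map_comp _ _).symm.trans
        (congrArg (fun φ => sglF.map φ) ?_))))))
    simp only [emb, dif_pos hj]
    ext
    simp [inc, c₀]

/-- cohomology of the composite functor -/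
def TUH (k : ℤ) : TU U ⋙ homologyFunctor (U : Scheme.{u}).Modules k ≅
    homologyFunctor (ModuleCat.{u} Γ(X, ⊤)) k ⋙ tilde.functor (CommRingCat.of Γ(X, ⊤)) ⋙
      Scheme.Modules.restrictFunctor X.isoSpec.hom ⋙ Scheme.Modules.restrictFunctor U.ι :=
  Functor.associator _ _ _ ≪≫
    Functor.isoWhiskerLeft (T X) (KFlat.MapHomology.iso (Scheme.Modules.restrictFunctor U.ι) k) ≪≫
    (Functor.associator _ _ _).symm ≪≫
    Functor.isoWhiskerRight (Functor.associator _ _ _ ≪≫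
      Functor.isoWhiskerLeft _ (KFlat.MapHomology.iso (Scheme.Modules.restrictFunctor X.isoSpec.hom) k) ≪≫
      (Functor.associator _ _ _).symm ≪≫
      Functor.isoWhiskerRight (KFlat.MapHomology.iso (tilde.functor (CommRingCat.of Γ(X, ⊤))) k) _ ≪≫
      Functor.associator _ _ _) _ ≪≫
    Functor.associator _ _ _ ≪≫ Functor.isoWhiskerLeft _ (Functor.associator _ _ _)

include hU in
/-- a perfect object is a retract of an extendable one -/
theorem exists_retract (F : DCoh.D (U : Scheme.{u})) (hF : DCoh.IsPerfect F) :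
    ∃ (G : DCoh.D (U : Scheme.{u})) (i : F ⟶ G) (r : G ⟶ F), Ext U G ∧ i ≫ r = 𝟙 F := by
  have : CompactSpace (U : Scheme.{u}) := isCompact_iff_compactSpace.1 hU
  have : QuasiSeparatedSpace (U : Scheme.{u}) := U.ι.isOpenEmbedding.quasiSeparatedSpace
  have : QuasiCompact U.ι := AlgebraicGeometry.quasiCompact_of_compactSpace U.ι
  have := KFlat.RPush.hasRpush U.ι
  obtain ⟨c, hc⟩ := CohDerLib.QC.exists_isLE_perfect hF
  obtain ⟨N, ⟨eN⟩⟩ := exists_iso_T X (CohDerLib.QC.isQCohD_Rpush U.ι _ (isQCohD_of_isPerfect hF))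
  let eU : (TU U).obj N ≅ F :=
    (DCoh.restrictD U.ι).mapIso eN ≪≫ (CohDerLib.Kosz.restrictRpushSelf U).app F
  let t := (DerivedCategory.TStructure.t : Triangulated.TStructure (DerivedCategory (ModuleCat.{u} Γ(X, ⊤))))
  let M := (t.truncLT (c + 1)).obj N
  have hMle : M.IsLE c := by
    have : M.IsLE (c + 1 - 1) := inferInstance
    simpa using this
  have : IsIso ((TU U).map ((t.truncLTι (c + 1)).app N)) := by
    rw [DerivedCategory.isIso_iff]
    intro k
    refine (NatIso.isIso_map_iff (TUH U k) _).2 ?_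
    by_cases hk : k < c + 1
    · have := Groth.Agent.KFlat.TruncHom.isIso_H_truncLTι N (c + 1) k hk
      simp only [Functor.comp_map]; infer_instance
    · refine isIso_of_isInitial (IsZero.isInitial ?_) (IsZero.isInitial ?_) _
      · exact Functor.map_isZero (tilde.functor (CommRingCat.of Γ(X, ⊤)) ⋙ Scheme.Modules.restrictFunctor X.isoSpec.hom ⋙
          Scheme.Modules.restrictFunctor U.ι) (DerivedCategory.isZero_of_isLE M c k (by omega))
      · exact ((isZero_of_isLE F c k (by omega)).of_iso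
          ((homologyFunctor _ k).mapIso eU)).of_iso ((TUH U k).app N).symm
  let eM : (TU U).obj M ≅ F := asIso ((TU U).map ((t.truncLTι (c + 1)).app N)) ≪≫ eU
  obtain ⟨P, hP, hfree, ⟨eP⟩⟩ := Groth.Agent.DRing.ProjAmp.exists_freeRep M c
    ((Groth.Agent.DRing.DBasic.isLE_iff_subsingleton M c).1 hMle)
  obtain ⟨⟨a, b, hab, hvan⟩, -⟩ := Groth.Agent.S1011.result (U : Scheme.{u}) F hF
  let n := a - 2
  let ι := Groth.Agent.DRing.KFlat.sigmaGEι P n
  obtain ⟨C, g, h, hC⟩ := distinguished_cocone_triangle (DerivedCategory.Q.map ι)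
  have hιf : ∀ k, n ≤ k → IsIso (ι.f k) := fun k hk => by
    rw [ConcreteCategory.isIso_iff_bijective]
    exact ⟨Subtype.val_injective, fun x => ⟨⟨x, Groth.Agent.DRing.PC.mem_truncSub hk x⟩, rfl⟩⟩
  have hιH : ∀ k, n + 1 ≤ k → IsIso ((homologyFunctor _ k).map (DerivedCategory.Q.map ι)) := fun k hk => by
    refine (NatIso.isIso_map_iff (homologyFunctorFactors (ModuleCat.{u} Γ(X, ⊤)) k) ι).2 ?_
    change IsIso (ShortComplex.homologyMap ((HomologicalComplex.shortComplexFunctor _ _ k).map ι))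
    have : IsIso ((HomologicalComplex.shortComplexFunctor (ModuleCat.{u} Γ(X, ⊤)) (ComplexShape.up ℤ) k).map ι) := by
      have h1 := hιf ((ComplexShape.up ℤ).prev k) (by simp; omega)
      have h2 := hιf k (by omega)
      have h3 := hιf ((ComplexShape.up ℤ).next k) (by simp; omega)
      exact @ShortComplex.isIso_of_isIso _ _ _ _ _ _ h1 h2 h3
    exact Functor.map_isIso (ShortComplex.homologyFunctor (ModuleCat.{u} Γ(X, ⊤))) _
  have hCz : ∀ k, n + 1 ≤ k → IsZero ((homologyFunctor _ k).obj C) := fun k hk => by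
    have := hιH k hk
    have := hιH (k + 1) (by omega)
    have h₁ : (homologyFunctor _ k).map g = 0 := by
      refine (cancel_epi ((homologyFunctor _ k).map (DerivedCategory.Q.map ι))).1 ?_
      rw [comp_zero]
      exact ((homologyFunctor _ k).map_comp _ _).symm.trans
        ((congrArg _ (comp_distTriang_mor_zero₁₂ _ hC)).trans (Functor.map_zero _ _ _))
    have h₂ : DerivedCategory.HomologySequence.δ (Triangle.mk (DerivedCategory.Q.map ι) g h) k (k + 1) rfl = 0 :=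
      (cancel_mono ((homologyFunctor _ (k + 1)).map (DerivedCategory.Q.map ι))).1
        ((DerivedCategory.HomologySequence.δ_comp _ hC k (k + 1) rfl).trans zero_comp.symm)
    exact (DerivedCategory.HomologySequence.exact₃ _ hC k (k + 1) rfl).isZero_of_both_zeros h₁ h₂
  let f : F ⟶ (TU U).obj (DRing.toD P) := eM.inv ≫ (TU U).map eP.inv
  obtain ⟨φ, hφ⟩ := Triangle.coyoneda_exact₂ _ ((TU U).map_distinguished _ hC) f
    (hvan _ (isQCohD_restrict _ (isQCohD_T X C)) (fun k hk _ =>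
      (Functor.map_isZero (tilde.functor (CommRingCat.of Γ(X, ⊤)) ⋙ Scheme.Modules.restrictFunctor X.isoSpec.hom ⋙
        Scheme.Modules.restrictFunctor U.ι) (hCz k (by omega))).of_iso ((TUH U k).app C)) _)
  have hfac : Factors U (DRing.toD (Groth.Agent.DRing.KFlat.sigmaGE P n)) := by
    refine Groth.Agent.DRing.Devissage.of_terms (Factors U) (fun e h => factors_of_iso U e h)
      (factors_isZero U) (factors_mid U hU) _ (a := n) (b := c) (fun k hk => ?_) fun k => ?_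
    · rcases hk with hk | hk
      · exact Groth.Agent.DRing.KFlat.sigmaGE_X_isZero P hk
      · exact Groth.Agent.DRing.PC.vanishesOutside_sigmaGE hP n k (Or.inr hk)
    · by_cases hk : n ≤ k
      · have := hιf k hk
        exact factors_sgl U inferInstance k _ (Groth.Agent.DRing.ProjAmp.free_of_iso (asIso (ι.f k)).symm (hfree k))
      · refine factors_isZero U _ (DerivedCategory.Q.map_isZero ((HomologicalComplex.single _ _ k).map_isZero
          (Groth.Agent.DRing.KFlat.sigmaGE_X_isZero P (by omega))))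
  obtain ⟨G, a', b', hG, hab'⟩ := hfac F hF φ
  refine ⟨G, a', b' ≫ (TU U).map (DerivedCategory.Q.map ι ≫ eP.hom) ≫ eM.hom, hG, ?_⟩
  rw [← Category.assoc, hab', Functor.map_comp, Category.assoc]
  refine (Category.assoc _ _ _).symm.trans ((congrArg (· ≫ (TU U).map eP.hom ≫ eM.hom) hφ.symm).trans ?_)
  simp [f, ← Functor.map_comp_assoc]

include hU in
/-- Thomason's trick -/
theorem thomason (F : DCoh.D (U : Scheme.{u})) (hF : DCoh.IsPerfect F) [HasBinaryBiproduct F (F⟦(1 : ℤ)⟧)] :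
    Ext U (F ⊞ F⟦(1 : ℤ)⟧) := by
  obtain ⟨G, i, r, hG, hir⟩ := exists_retract U hU F hF
  obtain ⟨F'', s, δ, hs⟩ := distinguished_cocone_triangle₁ r
  have : IsSplitEpi r := IsSplitEpi.mk' ⟨i, hir⟩
  have hδ : δ = 0 := (cancel_epi r).1 (((comp_distTriang_mor_zero₂₃ _ hs) : r ≫ δ = 0).trans comp_zero.symm)
  have : Mono s := Triangle.mono₁ _ hs hδ
  obtain ⟨q, hq⟩ : ∃ q : G ⟶ F'', 𝟙 G - r ≫ i = q ≫ s :=
    Triangle.coyoneda_exact₂ _ hs (𝟙 G - r ≫ i)
      (show (𝟙 G - r ≫ i) ≫ r = 0 by simp [hir])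
  have hsr : s ≫ r = 0 := comp_distTriang_mor_zero₁₂ _ hs
  have hsq : s ≫ q = 𝟙 F'' := (cancel_mono s).1 (by
    rw [Category.assoc, ← hq]; simp [reassoc_of% hsr])
  obtain ⟨K, k, e, hk⟩ := distinguished_cocone_triangle₁ q
  have : IsSplitEpi q := IsSplitEpi.mk' ⟨s, hsq⟩
  have he : e = 0 := (cancel_epi q).1 (((comp_distTriang_mor_zero₂₃ _ hk) : q ≫ e = 0).trans comp_zero.symm)
  have : Mono k := Triangle.mono₁ _ hk he
  have hiq : i ≫ q = 0 := (cancel_mono s).1 (by
    rw [Category.assoc, ← hq]; simp [reassoc_of% hir])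
  obtain ⟨a, ha⟩ : ∃ a : F ⟶ K, i = a ≫ k := Triangle.coyoneda_exact₂ _ hk i hiq
  have hkq : k ≫ q = 0 := comp_distTriang_mor_zero₁₂ _ hk
  let eK : F ≅ K :=
    { hom := a
      inv := k ≫ r
      hom_inv_id := by rw [← Category.assoc, ← ha, hir]
      inv_hom_id := (cancel_mono k).1 (by
        have h1 : k ≫ (𝟙 G - r ≫ i) = 0 := by rw [hq, ← Category.assoc, hkq, zero_comp]
        rw [Preadditive.comp_sub, Category.comp_id, sub_eq_zero] at h1
        rw [Category.assoc, Category.id_comp, Category.assoc, ← ha]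
        exact h1.symm) }
  obtain ⟨C, g, h, hC⟩ := distinguished_cocone_triangle (q ≫ s)
  let O := Triangulated.someOctahedron (rfl : q ≫ s = q ≫ s) (rot_of_distTriang _ hk) hs hC
  obtain ⟨b, -, -⟩ := exists_iso_binaryBiproduct_of_distTriang _ O.mem (by
    change δ ≫ _ = 0
    rw [hδ, zero_comp])
  have := HasBinaryBiproducts.of_hasBinaryProducts (C := DCoh.D (U : Scheme.{u}))
  exact ext_of_iso U (b ≪≫ biprod.mapIso ((shiftFunctor _ (1 : ℤ)).mapIso eK.symm) (Iso.refl F) ≪≫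
    biprod.braiding _ _) (ext_cone U hU _ hC hG hG)

end Groth.Agent.PerfExt
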