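import Groth.Agent.PerfExt.Gen

/-!
# Lifting maps from perfect objects over a quasi-compact open
-/

set_option autoImplicit false

universe u

open CategoryTheory CategoryTheory.Limits AlgebraicGeometry Pretriangulated DerivedCategory
open Groth.Agent.PerfTri Groth.Agent.CohDerLib

attribute [local instance] HasDerivedCategory.standard
attribute [-instance] CategoryTheory.ReflQuiver.toQuiver

noncomputable section

namespace Groth.Agent.PerfExt

/-- maps from perfect objects along `k` lift after adding a direct summand -/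
def HasLift {U Y : Scheme.{u}} (k : U ⟶ Y) [IsOpenImmersion k] : Prop :=
  ∀ W : Y.Opens, IsCompact (W : Set Y) → ∀ E : DCoh.D Y, DCoh.IsQCohD E → ∀ P : DCoh.D U, DCoh.IsPerfect P →
    IsZero ((DCoh.restrictD (k ⁻¹ᵁ W).ι).obj P) → ∀ α : P ⟶ (DCoh.restrictD k).obj E,
    ∃ (R : DCoh.D Y) (β : R ⟶ E) (i : P ⟶ (DCoh.restrictD k).obj R) (p : (DCoh.restrictD k).obj R ⟶ P),
      DCoh.IsPerfect R ∧ IsZero ((DCoh.restrictD W.ι).obj R) ∧ i ≫ p = 𝟙 P ∧ i ≫ (DCoh.restrictD k).map β = α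

theorem hasLift_comp {U U₀ Y : Scheme.{u}} (k₀ : U ⟶ U₀) (m : U₀ ⟶ Y) (k : U ⟶ Y) [IsOpenImmersion k₀]
    [IsOpenImmersion m] [IsOpenImmersion k] (hk : k₀ ≫ m = k) [QuasiCompact m]
    (h₀ : HasLift k₀) (h : HasLift m) : HasLift k := by
  intro W hW E hE P hP hPW α
  let c := restrictDComp k₀ m k hk
  obtain ⟨R₀, β₀, i₀, p₀, hR₀, hR₀W, hi₀, hb₀⟩ := h₀ (m ⁻¹ᵁ W)
    (QuasiCompact.isCompact_preimage (f := m) _ W.isOpen hW) _ (isQCohD_restrict m hE) P hP
    (by subst hk; exact hPW) (α ≫ c.inv.app E)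
  obtain ⟨R, β, i, p, hR, hRW, hi, hb⟩ := h W hW E hE R₀ hR₀ hR₀W β₀
  refine ⟨R, β, i₀ ≫ (DCoh.restrictD k₀).map i ≫ c.hom.app R, c.inv.app R ≫ (DCoh.restrictD k₀).map p ≫ p₀,
    hR, hRW, ?_, ?_⟩
  · simp only [Category.assoc, Iso.hom_inv_id_app_assoc]
    rw [← Functor.map_comp_assoc, hi]
    simpa using hi₀
  · have hn : c.hom.app R ≫ (DCoh.restrictD k).map β =
        (DCoh.restrictD k₀).map ((DCoh.restrictD m).map β) ≫ c.hom.app E := (c.hom.naturality β).symm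
    simp only [Category.assoc]
    rw [hn, ← Functor.map_comp_assoc, hb, ← Category.assoc, hb₀, Category.assoc, Iso.inv_hom_id_app]
    exact Category.comp_id _

theorem hasLift_surjective {U Y : Scheme.{u}} (k : U ⟶ Y) [IsOpenImmersion k]
    (hk : Set.range k = Set.univ) : HasLift k := by
  intro W hW E hE P hP hPW α
  have : IsIso k := (isIso_iff_isOpenImmersion_and_epi_base k).2 ⟨inferInstance,
    (TopCat.epi_iff_surjective _).2 (Set.range_eq_univ.1 hk)⟩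
  have : (DCoh.restrictD k).IsEquivalence := isEquivalence_restrictD (asIso k)
  let R := (DCoh.restrictD k).objPreimage P
  let e : (DCoh.restrictD k).obj R ≅ P := (DCoh.restrictD k).objObjPreimageIso P
  obtain ⟨β, hβ⟩ := (DCoh.restrictD k).map_surjective (e.hom ≫ α)
  refine ⟨R, β, e.inv, e.hom, ?_, ?_, e.inv_hom_id, by rw [hβ, Iso.inv_hom_id_assoc]⟩
  · refine Perfect.isPerfect_of_iso ?_ (isPerfect_restrict (inv k) hP)
    exact (DCoh.restrictD (inv k)).mapIso e.symm ≪≫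
      ((restrictDComp (inv k) k (𝟙 Y) (IsIso.inv_hom_id k)).trans (restrictDId Y)).app R
  · have h1 : IsZero ((DCoh.restrictD (inv k ⁻¹ᵁ (k ⁻¹ᵁ W)).ι).obj ((DCoh.restrictD (inv k)).obj P)) := by
      refine IsZero.of_iso ?_ ((restrictDComp _ (inv k) _ rfl).app P)
      refine isZero_restrict_of_range (k ⁻¹ᵁ W) _ ?_ hPW
      rintro _ ⟨z, rfl⟩
      exact z.2
    refine isZero_restrict_of_range (inv k ⁻¹ᵁ (k ⁻¹ᵁ W)) W.ι ?_ (h1.of_iso ((DCoh.restrictD _).mapIso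
      (((DCoh.restrictD (inv k)).mapIso e.symm ≪≫
        ((restrictDComp (inv k) k (𝟙 Y) (IsIso.inv_hom_id k)).trans (restrictDId Y)).app R).symm)))
    rw [Scheme.Opens.range_ι]
    intro y hy
    show k (inv k y) ∈ W
    rwa [← Scheme.Hom.comp_apply, IsIso.inv_hom_id]

variable {X : Scheme.{u}} [CompactSpace X] [QuasiSeparatedSpace X]

theorem hasLift_two (U V : X.Opens) (hUV : U ⊔ V = ⊤) [IsAffine (V : Scheme.{u})] (hU : IsCompact (U : Set X)) :
    HasLift U.ι := by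
  intro W hW E hE P hP hPW α
  have := HasBinaryBiproducts.of_hasBinaryProducts (C := DCoh.D (U : Scheme.{u}))
  obtain ⟨R₀, hR₀, hR₀W, ⟨eR⟩⟩ := exists_extension U V W hUV hU hW P hP hPW
  have : CompactSpace (U : Scheme.{u}) := isCompact_iff_compactSpace.1 hU
  have : QuasiCompact U.ι := AlgebraicGeometry.quasiCompact_of_compactSpace U.ι
  have : QuasiCompact V.ι := AlgebraicGeometry.quasiCompact_of_compactSpace V.ι
  have := KFlat.RPush.hasRpush U.ι
  have := KFlat.RPush.hasRpush V.ι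
  obtain ⟨adj⟩ := exists_adj (X := X) U.ι
  obtain ⟨adjV⟩ := exists_adj (X := X) V.ι
  let α' : (DCoh.restrictD U.ι).obj R₀ ⟶ (DCoh.restrictD U.ι).obj E := eR.hom ≫ biprod.fst ≫ α
  let φ : R₀ ⟶ (DCoh.Rpush U.ι).obj ((DCoh.restrictD U.ι).obj E) := adj.homEquiv _ _ α'
  obtain ⟨C, c, d, hC⟩ := distinguished_cocone_triangle (adj.unit.app E)
  have hCq : DCoh.IsQCohD C := Groth.Agent.PCohD.isQCohD_obj₃ _ hC hE
    (QC.isQCohD_Rpush U.ι _ (isQCohD_restrict U.ι hE))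
  have hCU : IsZero ((DCoh.restrictD U.ι).obj C) :=
    (Triangle.isZero₃_iff_isIso₁ _ ((DCoh.restrictD U.ι).map_distinguished _ hC)).2 (Kosz.isIso_restrict_unit U adj E)
  -- models on `V`
  obtain ⟨M, ⟨eM⟩⟩ := exists_iso_T (V : Scheme.{u}) (isQCohD_restrict V.ι (isQCohD_of_isPerfect hR₀))
  obtain ⟨N, ⟨eN⟩⟩ := exists_iso_T (V : Scheme.{u}) (isQCohD_restrict V.ι hCq)
  let O : (V : Scheme.{u}).Opens := V.ι ⁻¹ᵁ U
  let WV : (V : Scheme.{u}).Opens := V.ι ⁻¹ᵁ W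
  obtain ⟨fs, hfs⟩ := exists_isZero_iff (V : Scheme.{u}) O (QuasiCompact.isCompact_preimage (f := V.ι) _ U.isOpen hU)
  obtain ⟨gs, hgs⟩ := exists_isZero_iff (V : Scheme.{u}) WV (QuasiCompact.isCompact_preimage (f := V.ι) _ W.isOpen hW)
  obtain ⟨θ, hθ⟩ := (T (V : Scheme.{u})).map_surjective (eM.hom ≫ (DCoh.restrictD V.ι).map (φ ≫ c) ≫ eN.inv)
  have hNO : ∀ g ∈ fs, Kosz.HTors g N := (hfs N).1
    (((isZero_restrict_of_range U (O.ι ≫ V.ι) (by rintro _ ⟨z, rfl⟩; exact z.2) hCU).of_iso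
      ((restrictDComp O.ι V.ι _ rfl).app C)).of_iso ((DCoh.restrictD O.ι).mapIso eN))
  have hMW : ∀ g ∈ gs, Kosz.HTors g M := (hgs M).1
    (((isZero_restrict_of_range W (WV.ι ≫ V.ι) (by rintro _ ⟨z, rfl⟩; exact z.2) hR₀W).of_iso
      ((restrictDComp WV.ι V.ι _ rfl).app R₀)).of_iso ((DCoh.restrictD WV.ι).mapIso eM))
  obtain ⟨Z, q, ψ, hZp, hq, hZO, hZx⟩ := exists_factor' fs M N
    ((isPerfect_T_iff _ M).1 (Perfect.isPerfect_of_iso eM.symm (isPerfect_restrict V.ι hR₀))) hNO θ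
  let ZX := (DCoh.Rpush V.ι).obj ((T (V : Scheme.{u})).obj Z)
  have hZU : IsZero ((DCoh.restrictD U.ι).obj ZX) := by
    have := KFlat.RPush.hasRpush (V.ι ∣_ U)
    exact ((DCoh.Rpush (V.ι ∣_ U)).map_isZero ((hfs Z).2 hZO)).of_iso
      ((KFlat.RPushBase.restrictRpushIso V.ι U).app ((T (V : Scheme.{u})).obj Z))
  have hZW : IsZero ((DCoh.restrictD W.ι).obj ZX) := by
    have := KFlat.RPush.hasRpush (V.ι ∣_ W)
    exact ((DCoh.Rpush (V.ι ∣_ W)).map_isZero ((hgs Z).2 fun g hg => hZx g (hMW g hg))).of_iso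
      ((KFlat.RPushBase.restrictRpushIso V.ι W).app ((T (V : Scheme.{u})).obj Z))
  have hZperf : DCoh.IsPerfect ZX := isPerfect_of_cover U V hUV (Perfect.isPerfect_zero hZU)
    (Perfect.isPerfect_of_iso ((Kosz.restrictRpushSelf V).app _).symm ((isPerfect_T_iff _ Z).2 hZp))
  let q' : R₀ ⟶ ZX := adjV.homEquiv _ _ (eM.inv ≫ (T (V : Scheme.{u})).map q)
  let ψ' : ZX ⟶ (DCoh.Rpush V.ι).obj ((DCoh.restrictD V.ι).obj C) :=
    (DCoh.Rpush V.ι).map ((T (V : Scheme.{u})).map ψ ≫ eN.hom)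
  have hηC : IsIso (adjV.unit.app C) := by
    refine isIso_of_cover U V hUV _ (isIso_of_isInitial hCU.isInitial (IsZero.isInitial ?_) _)
      (Kosz.isIso_restrict_unit V adjV C)
    have := KFlat.RPush.hasRpush (V.ι ∣_ U)
    exact ((DCoh.Rpush (V.ι ∣_ U)).map_isZero ((isZero_restrict_of_range U (O.ι ≫ V.ι)
      (by rintro _ ⟨z, rfl⟩; exact z.2) hCU).of_iso ((restrictDComp O.ι V.ι _ rfl).app C))).of_iso
      ((KFlat.RPushBase.restrictRpushIso V.ι U).app _)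
  obtain ⟨R, ν, h', hR⟩ := distinguished_cocone_triangle₁ q'
  have hqψ : q' ≫ ψ' = (φ ≫ c) ≫ adjV.unit.app C := by
    refine (adjV.homEquiv_naturality_right _ _).symm.trans ?_
    refine Eq.trans ?_ (adjV.unit.naturality (φ ≫ c)).symm
    rw [Adjunction.homEquiv_unit]
    refine congrArg (fun x => adjV.unit.app R₀ ≫ (DCoh.Rpush V.ι).map x) ?_
    rw [Category.assoc, ← Functor.map_comp_assoc, hq, hθ]
    simp only [Category.assoc, Iso.inv_hom_id, Category.comp_id, Iso.inv_hom_id_assoc]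
  have hν : (ν ≫ φ) ≫ c = 0 := by
    refine (cancel_mono (adjV.unit.app C)).1 ?_
    rw [zero_comp, Category.assoc ν φ c, Category.assoc ν (φ ≫ c), ← hqψ, ← Category.assoc]
    exact (congrArg (· ≫ ψ') (comp_distTriang_mor_zero₁₂ _ hR)).trans zero_comp
  obtain ⟨β, hβ⟩ : ∃ β : R ⟶ E, ν ≫ φ = β ≫ adj.unit.app E := Triangle.coyoneda_exact₂ _ hC (ν ≫ φ) hν
  have hνU : IsIso ((DCoh.restrictD U.ι).map ν) :=
    (Triangle.isZero₃_iff_isIso₁ _ ((DCoh.restrictD U.ι).map_distinguished _ hR)).1 hZU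
  have hβU : (DCoh.restrictD U.ι).map β = (DCoh.restrictD U.ι).map ν ≫ α' := by
    apply (adj.homEquiv _ _).injective
    rw [adj.homEquiv_naturality_left]
    exact ((adj.homEquiv_unit _ _ _).trans (adj.unit.naturality β).symm).trans hβ.symm
  refine ⟨R, β, biprod.inl ≫ eR.inv ≫ inv ((DCoh.restrictD U.ι).map ν),
    (DCoh.restrictD U.ι).map ν ≫ eR.hom ≫ biprod.fst, Perfect.isPerfect₁ _ hR hR₀ hZperf, ?_, ?_, ?_⟩
  · refine (Triangle.isZero₁_iff_isIso₂ _ ((DCoh.restrictD W.ι).map_distinguished _ hR)).2 ?_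
    exact isIso_of_isInitial hR₀W.isInitial hZW.isInitial _
  · simp
  · rw [hβU]; simp [α']

omit [CompactSpace X] [QuasiSeparatedSpace X] in
/-- lifting from an arbitrary quasi-compact open -/
theorem hasLift (X : Scheme.{u}) [CompactSpace X] [QuasiSeparatedSpace X] (U : X.Opens)
    (hU : IsCompact (U : Set X)) : HasLift U.ι := by
  suffices h : ∀ S : X.Opens, IsCompact (S : Set X) →
      ∀ (Y : Scheme.{u}) (j : Y ⟶ X) [IsOpenImmersion j], Set.range j = ((U ⊔ S : X.Opens) : Set X) →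
      ∀ (k : (U : Scheme.{u}) ⟶ Y) [IsOpenImmersion k], k ≫ j = U.ι → HasLift k from
    h ⊤ isCompact_univ X (𝟙 X) (by simp) U.ι (Category.comp_id _)
  intro S hS
  refine compact_open_induction_on (P := fun S : X.Opens =>
    ∀ (Y : Scheme.{u}) (j : Y ⟶ X) [IsOpenImmersion j], Set.range j = ((U ⊔ S : X.Opens) : Set X) →
      ∀ (k : (U : Scheme.{u}) ⟶ Y) [IsOpenImmersion k], k ≫ j = U.ι → HasLift k) S hS ?_ ?_
  · intro Y j _ hj k _ hk
    refine hasLift_surjective k (Set.eq_univ_of_forall fun y => ?_)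
    have h1 : j y ∈ Set.range j := ⟨y, rfl⟩
    rw [hj, sup_bot_eq] at h1
    refine ⟨⟨j y, h1⟩, j.isOpenEmbedding.injective ?_⟩
    rw [← Scheme.Hom.comp_apply, hk]
    rfl
  · intro S₀ hS₀ V₀ ih Y j _ hj k _ hk
    have hYc : CompactSpace Y := by
      refine ⟨j.isOpenEmbedding.isInducing.isCompact_iff.2 ?_⟩
      rw [Set.image_univ, hj]
      exact hU.union (hS₀.union V₀.2.isCompact)
    have hYq : QuasiSeparatedSpace Y := j.isOpenEmbedding.quasiSeparatedSpace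
    have hsub : ∀ Z : X.Opens, (Z : Set X) ⊆ (U ⊔ (S₀ ⊔ V₀) : X.Opens) → (Z : Set X) ⊆ Set.range j :=
      fun Z hZ => hZ.trans hj.ge
    let U₀ : Y.Opens := j ⁻¹ᵁ (U ⊔ S₀)
    let V : Y.Opens := j ⁻¹ᵁ V₀
    have hUS : ((U ⊔ S₀ : X.Opens) : Set X) ⊆ (U ⊔ (S₀ ⊔ V₀) : X.Opens) :=
      SetLike.coe_subset_coe.2 (sup_le_sup_left le_sup_left U)
    have hU₀ : IsCompact (U₀ : Set Y) :=
      j.isOpenEmbedding.isInducing.isCompact_preimage' (hU.union hS₀) (hsub _ hUS)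
    have hUV : U₀ ⊔ V = ⊤ := top_le_iff.1 fun y _ => by
      have h1 : j y ∈ Set.range j := ⟨y, rfl⟩
      rw [hj, ← sup_assoc] at h1
      exact h1
    have hV : IsAffineOpen V := V₀.2.preimage_of_isOpenImmersion j
      (hsub V₀ (SetLike.coe_subset_coe.2 (le_sup_right.trans le_sup_right)))
    have : IsAffine (V : Scheme.{u}) := hV
    have : CompactSpace (U₀ : Scheme.{u}) := isCompact_iff_compactSpace.1 hU₀
    have : QuasiCompact U₀.ι := AlgebraicGeometry.quasiCompact_of_compactSpace U₀.ι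
    have hU₀r : Set.range (U₀.ι ≫ j) = ((U ⊔ S₀ : X.Opens) : Set X) := by
      ext x
      constructor
      · rintro ⟨z, rfl⟩; exact z.2
      · intro hx
        obtain ⟨y, rfl⟩ := hsub _ hUS hx
        exact ⟨⟨y, hx⟩, rfl⟩
    let k₀ := IsOpenImmersion.lift U₀.ι k (by
      rintro _ ⟨z, rfl⟩
      rw [Scheme.Opens.range_ι]
      show j (k z) ∈ U ⊔ S₀
      rw [← Scheme.Hom.comp_apply, hk]
      exact Or.inl z.2)
    have : IsOpenImmersion k₀ := by
      have : IsOpenImmersion (k₀ ≫ U₀.ι) := by rw [IsOpenImmersion.lift_fac]; infer_instance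
      exact IsOpenImmersion.of_comp k₀ U₀.ι
    have hk₀ : k₀ ≫ U₀.ι ≫ j = U.ι := by rw [IsOpenImmersion.lift_fac_assoc, hk]
    exact hasLift_comp k₀ U₀.ι k (IsOpenImmersion.lift_fac _ _ _)
      (ih (U₀ : Scheme.{u}) (U₀.ι ≫ j) hU₀r k₀ hk₀) (hasLift_two U₀ V hUV hU₀)

end Groth.Agent.PerfExt
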