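import Groth.Agent.PerfExt.Supp
import Groth.Agent.CohDev.Loc
import Groth.Agent.CohDerLib.QC.CohPush
import Groth.Agent.S6519
import Groth.Agent.S6528

/-!
# Local tools for perfect generators
-/

set_option autoImplicit false

universe u

open CategoryTheory CategoryTheory.Limits AlgebraicGeometry Pretriangulated DerivedCategory
open Groth.Agent.PerfTri Groth.Agent.CohDerLib

attribute [local instance] HasDerivedCategory.standard

noncomputable section

namespace Groth.Agent.PerfExt

variable {X : Scheme.{u}}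

theorem isIso_of_cover (U V : X.Opens) (hUV : U ⊔ V = ⊤) {E E' : DCoh.D X} (f : E ⟶ E')
    (hU : IsIso ((DCoh.restrictD U.ι).map f)) (hV : IsIso ((DCoh.restrictD V.ι).map f)) : IsIso f := by
  rw [DerivedCategory.isIso_iff]
  intro i
  refine QC.isIso_of_restrict _ (fun b : Bool => if b then U else V) ?_ fun b => ?_
  · rw [← hUV]
    apply le_antisymm
    · exact iSup_le fun b => by cases b <;> simp
    · exact sup_le (le_iSup_of_le true le_rfl) (le_iSup_of_le false le_rfl)
  have key : ∀ W : X.Opens, IsIso ((DCoh.restrictD W.ι).map f) →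
      IsIso ((Scheme.Modules.restrictFunctor W.ι).map ((homologyFunctor X.Modules i).map f)) := by
    intro W hW
    have : IsIso ((DCoh.restrictD W.ι ⋙ homologyFunctor (W : Scheme.{u}).Modules i).map f) :=
      Functor.map_isIso (homologyFunctor (W : Scheme.{u}).Modules i) _
    exact (NatIso.isIso_map_iff (Groth.Agent.KFlat.MapHomology.iso (Scheme.Modules.restrictFunctor W.ι) i) f).1 this
  cases b with
  | true => exact key U hU
  | false => exact key V hV

theorem isZero_of_cover (U V : X.Opens) (hUV : U ⊔ V = ⊤) {E : DCoh.D X}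
    (hU : IsZero ((DCoh.restrictD U.ι).obj E)) (hV : IsZero ((DCoh.restrictD V.ι).obj E)) : IsZero E := by
  have : IsIso (0 : E ⟶ E) := isIso_of_cover U V hUV _ (isIso_of_isInitial hU.isInitial hU.isInitial _)
    (isIso_of_isInitial hV.isInitial hV.isInitial _)
  rw [IsZero.iff_id_eq_zero]
  exact (cancel_epi (0 : E ⟶ E)).1 (by simp)

theorem isZero_restrict_of_range (W : X.Opens) {Y : Scheme.{u}} (j : Y ⟶ X) [IsOpenImmersion j]
    (h : Set.range j ⊆ W) {E : DCoh.D X} (hE : IsZero ((DCoh.restrictD W.ι).obj E)) :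
    IsZero ((DCoh.restrictD j).obj E) := by
  let l := IsOpenImmersion.lift W.ι j (by rwa [Scheme.Opens.range_ι])
  have : IsOpenImmersion l := by
    have : IsOpenImmersion (l ≫ W.ι) := by rw [IsOpenImmersion.lift_fac]; infer_instance
    exact IsOpenImmersion.of_comp l W.ι
  exact ((DCoh.restrictD l).map_isZero hE).of_iso
    ((restrictDComp l W.ι j (IsOpenImmersion.lift_fac _ _ _)).app E).symm

theorem support_subset_of_isZero_restrict (W : X.Opens) {E : DCoh.D X}
    (h : IsZero ((DCoh.restrictD W.ι).obj E)) (i : ℤ) : CohB1.support (DCoh.HD E i) ⊆ (W : Set X)ᶜ := by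
  intro x hx hxW
  exact hx (Groth.Agent.S6528.subsingleton_stalk (U := W)
    (((DerivedCategory.homologyFunctor _ i).map_isZero h).of_iso (Kosz.homologyRestrictIso W E i).symm) hxW)

theorem isZero_restrict_of_support (W : X.Opens) {E : DCoh.D X}
    (h : ∀ i, CohB1.support (DCoh.HD E i) ⊆ (W : Set X)ᶜ) : IsZero ((DCoh.restrictD W.ι).obj E) := by
  have hh : ∀ i, IsZero ((homologyFunctor _ i).obj ((DCoh.restrictD W.ι).obj E)) := fun i => by
    refine (CohDev.isZero_restrict_of_support W.ι (M := DCoh.HD E i) ?_).of_iso (Kosz.homologyRestrictIso W E i)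
    intro x hx
    rw [Scheme.Opens.range_ι]
    exact h i hx
  have : IsIso (0 : (DCoh.restrictD W.ι).obj E ⟶ (DCoh.restrictD W.ι).obj E) := by
    rw [DerivedCategory.isIso_iff]
    exact fun i => isIso_of_isInitial (hh i).isInitial (hh i).isInitial _
  rw [IsZero.iff_id_eq_zero]
  exact (cancel_epi (0 : (DCoh.restrictD W.ι).obj E ⟶ _)).1 (by simp)

theorem perfect_KD {A : Type u} [CommRing A] (fs : List A) : DRing.IsPerfect A (Kosz.KD fs) := by
  induction fs with
  | nil =>
    refine ⟨(HomologicalComplex.single (ModuleCat.{u} A) (ComplexShape.up ℤ) 0).obj (ModuleCat.of A A), 0, 0,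
      fun k hk => HomologicalComplex.isZero_single_obj_X _ _ _ _ (by omega), fun k => ?_, ⟨Iso.refl _⟩⟩
    by_cases hk : k = 0
    · subst hk
      let e := (HomologicalComplex.singleObjXSelf (ComplexShape.up ℤ) 0 (ModuleCat.of A A)).symm.toLinearEquiv
      exact ⟨Module.Finite.equiv e, Module.Projective.of_equiv e⟩
    · have := ModuleCat.subsingleton_of_isZero
        (HomologicalComplex.isZero_single_obj_X (ComplexShape.up ℤ) 0 (ModuleCat.of A A) k hk)
      exact ⟨inferInstance, inferInstance⟩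
  | cons f l ih => exact Groth.Agent.DRing.Perfect.perfect_two_of_three (Kosz.tri_dist f l) |>.1 ih ih

/-- orthogonality -/
def Orth (P E : DCoh.D X) : Prop := ∀ (n : ℤ) (φ : P⟦n⟧ ⟶ E), φ = 0

theorem orth_of_retract {P Q E : DCoh.D X} (i : P ⟶ Q) (r : Q ⟶ P) (h : i ≫ r = 𝟙 P) (hQ : Orth Q E) :
    Orth P E := fun n φ => by
  have h1 : φ = (i⟦n⟧') ≫ (r⟦n⟧') ≫ φ := by
    rw [← Category.assoc, ← Functor.map_comp, h]; simp
  rw [h1, hQ n ((r⟦n⟧') ≫ φ), comp_zero]

theorem orth_of_iso {P Q E E' : DCoh.D X} (e : P ≅ Q) (e' : E ≅ E') (h : Orth P E) : Orth Q E' :=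
  fun n φ => by
  refine (cancel_mono e'.inv).1 ((cancel_epi (e.hom⟦n⟧')).1 ?_)
  rw [zero_comp, comp_zero]
  exact h n _

theorem orth_adj {Y : Scheme.{u}} {L : DCoh.D X ⥤ DCoh.D Y} {R : DCoh.D Y ⥤ DCoh.D X} (adj : L ⊣ R)
    [L.CommShift ℤ] {P : DCoh.D X} {E : DCoh.D Y} : Orth (L.obj P) E ↔ Orth P (R.obj E) := by
  constructor
  · intro h n φ
    refine (adj.homEquiv _ _).symm.injective ((cancel_epi ((L.commShiftIso n).inv.app P)).1 ?_)
    exact (h n _).trans (h n _).symm
  · intro h n φ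
    refine (cancel_epi ((L.commShiftIso n).hom.app P)).1 ((adj.homEquiv _ _).injective ?_)
    exact (h n _).trans (h n _).symm

/-- an orthogonal torsion object on an affine scheme vanishes -/
theorem isZero_of_orth [IsAffine X] (fs : List Γ(X, ⊤)) {E : DCoh.D X}
    (M : DerivedCategory (ModuleCat.{u} Γ(X, ⊤))) (e : (T X).obj M ≅ E)
    (htors : ∀ g ∈ fs, Kosz.HTors g M) (h : Orth ((T X).obj (Kosz.KD fs)) E) : IsZero E := by
  have hz : ∀ m, IsZero ((homologyFunctor (ModuleCat.{u} Γ(X, ⊤)) m).obj M) := fun m => by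
    have := Kosz.isZero_homology_of_hom fs M htors (-m) fun φ => (T X).map_injective (by
      rw [Functor.map_zero]
      refine (cancel_epi ((((T X).commShiftIso (-m)).app (Kosz.KD fs)).inv)).1 ((cancel_mono e.hom).1 ?_)
      rw [comp_zero, zero_comp]
      exact h (-m) _)
    simpa using this
  refine ((T X).map_isZero ?_).of_iso e.symm
  have : IsIso (0 : M ⟶ M) := by
    rw [DerivedCategory.isIso_iff]
    exact fun i => isIso_of_isInitial (hz i).isInitial (hz i).isInitial _
  rw [IsZero.iff_id_eq_zero]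
  exact (cancel_epi (0 : M ⟶ M)).1 (by simp)

theorem exists_adj {Y : Scheme.{u}} (j : Y ⟶ X) [IsOpenImmersion j] [DCoh.HasRpush j] :
    Nonempty (DCoh.restrictD j ⊣ DCoh.Rpush j) :=
  DTrunc.DerivedPushAdj.nonempty_adjunction (DCoh.Rpush j)
    ((DCoh.pushKh j).totalRightDerivedUnit DerivedCategory.Qh
      (HomotopyCategory.quasiIso Y.Modules (ComplexShape.up ℤ)))
    (Scheme.Modules.restrictAdjunction j)

theorem isPerfect_of_cover (U V : X.Opens) (hUV : U ⊔ V = ⊤) {E : DCoh.D X}
    (hU : DCoh.IsPerfect ((DCoh.restrictD U.ι).obj E)) (hV : DCoh.IsPerfect ((DCoh.restrictD V.ι).obj E)) :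
    DCoh.IsPerfect E := by
  refine (Perfect.near_iff E).mpr fun x => ?_
  have key : ∀ W : X.Opens, x ∈ W → DCoh.IsPerfect ((DCoh.restrictD W.ι).obj E) →
      ∃ (U' : Scheme.{u}) (j : U' ⟶ X) (_ : IsOpenImmersion j),
        x ∈ Set.range j ∧ Perfect.IsSP ((DCoh.restrictD j).obj E) := fun W hx hW => by
    obtain ⟨U', j, hj, ⟨y, hy⟩, hsp⟩ := (Perfect.near_iff _).mp hW ⟨x, hx⟩
    exact ⟨U', j ≫ W.ι, inferInstance, ⟨y, by simp [hy]⟩,
      Perfect.isSP_of_iso (Perfect.restrComp j W.ι (j ≫ W.ι) rfl E) hsp⟩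
  have hx : x ∈ U ⊔ V := by rw [hUV]; trivial
  exact hx.elim (fun h => key U h hU) (fun h => key V h hV)

end Groth.Agent.PerfExt
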