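import Groth.Agent.PerfExt.Local
import Groth.Agent.KFlat.PerfectCompact
import Groth.Agent.CohDerLib.QC.PushSums
import Groth.Agent.QCohD.DQ
import Groth.Agent.PCohD.RpushAffine
import Groth.Agent.S6978
import Groth.Agent.S1000
import Groth.Agent.S1011
import Groth.Prelude.Def_PerfAux

/-!
# Compact objects of `D_QCoh` are the perfect ones
-/

set_option autoImplicit false

universe w v' u

open CategoryTheory CategoryTheory.Limits AlgebraicGeometry Pretriangulated DerivedCategory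
open Groth.Agent.PerfTri Groth.Agent.CohDerLib
open Groth.Agent.KFlat.CompactOne (FinSum)

attribute [local instance] HasDerivedCategory.standard
attribute [-instance] CategoryTheory.ReflQuiver.toQuiver

noncomputable section

namespace Groth.Agent.PerfExt

section Generic

variable {D : Type*} [Category.{v'} D] [Preadditive D] {I : Type w}

theorem finSum_of_bijective {K : D} (X : I → D) [HasCoproduct X]
    (h : Function.Bijective (PerfAux.homSumToHomCoprod K X)) :
    FinSum K (Cofan.mk (∐ X) (Sigma.ι X)).inj := by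
  classical
  have happ : ∀ x, PerfAux.homSumToHomCoprod K X x = ∑ a ∈ DFinsupp.support x, x a ≫ Sigma.ι X a := fun x => by
    conv_lhs => rw [← DirectSum.sum_support_of x]
    rw [map_sum]
    exact Finset.sum_congr rfl fun a _ => DirectSum.toAddMonoid_of _ _ _
  refine ⟨fun φ => ?_, fun S t ht i hi => ?_⟩
  · obtain ⟨x, hx⟩ := h.2 φ
    exact ⟨DFinsupp.support x, fun a => x a, hx.symm.trans (happ x)⟩
  · have h0 : (∑ j ∈ S, DirectSum.of (fun i => K ⟶ X i) j (t j)) = 0 := h.1 (by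
      rw [map_sum, map_zero, ← ht]
      exact Finset.sum_congr rfl fun j _ => DirectSum.toAddMonoid_of _ _ _)
    have := congrArg (fun x : DirectSum I fun i => K ⟶ X i => x i) h0
    simpa [DFinsupp.finset_sum_apply, DirectSum.of_apply, hi] using this

theorem bijective_of_finSum {K : D} (X : I → D) [HasCoproduct X] {c : Cofan X} (hc : IsColimit c)
    (h : FinSum K c.inj) : Function.Bijective (PerfAux.homSumToHomCoprod K X) := by
  classical
  let d : Cofan X := Cofan.mk (∐ X) (Sigma.ι X)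
  have h' : FinSum K d.inj := h.of_cofan hc (coproductIsCoproduct X)
  have happ : ∀ x, PerfAux.homSumToHomCoprod K X x = ∑ a ∈ DFinsupp.support x, x a ≫ Sigma.ι X a := fun x => by
    conv_lhs => rw [← DirectSum.sum_support_of x]
    rw [map_sum]
    exact Finset.sum_congr rfl fun a _ => DirectSum.toAddMonoid_of _ _ _
  refine ⟨(injective_iff_map_eq_zero _).2 fun x hx => DFinsupp.ext fun a => ?_, fun φ => ?_⟩
  · by_cases ha : a ∈ DFinsupp.support x
    · exact h'.2 _ (fun i => x i) ((happ x).symm.trans hx) a ha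
    · exact DFinsupp.notMem_support_iff.1 ha
  · obtain ⟨S, t, rfl⟩ := h'.1 φ
    refine ⟨∑ i ∈ S, DirectSum.of _ i (t i), ?_⟩
    rw [map_sum]
    exact Finset.sum_congr rfl fun i _ => DirectSum.toAddMonoid_of _ _ _

theorem finSum_of_functor {D' : Type*} [Category.{v'} D'] [Preadditive D'] (F : D ⥤ D') [F.Additive] [F.Full]
    [F.Faithful] {K : D} {M : I → D} {P : D} {j : ∀ i, M i ⟶ P}
    (h : FinSum (F.obj K) fun i => F.map (j i)) : FinSum K j := by
  refine ⟨fun φ => ?_, fun S t ht i hi => F.map_injective ?_⟩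
  · obtain ⟨S, t, ht⟩ := h.1 (F.map φ)
    refine ⟨S, fun i => F.preimage (t i), F.map_injective ?_⟩
    simp [ht, F.map_sum]
  · rw [F.map_zero]
    refine h.2 S (fun i => F.map (t i)) ?_ i hi
    rw [← F.map_zero, ← ht, F.map_sum]
    simp

variable [HasZeroObject D] [HasShift D ℤ] [∀ n : ℤ, (shiftFunctor D n).Additive] [Pretriangulated D]

/-- killing the third terms -/
theorem finSum_of_third {K : D} {M E N : I → D} {P Q R : D} {jM : ∀ i, M i ⟶ P} {jE : ∀ i, E i ⟶ Q}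
    (f : ∀ i, M i ⟶ E i) (g : ∀ i, E i ⟶ N i) (δ : ∀ i, N i ⟶ (M i)⟦(1 : ℤ)⟧)
    (hT : ∀ i, Triangle.mk (f i) (g i) (δ i) ∈ distinguishedTriangles)
    (F : P ⟶ Q) (G : Q ⟶ R) (Δ : R ⟶ P⟦(1 : ℤ)⟧) (hS : Triangle.mk F G Δ ∈ distinguishedTriangles)
    (w : ∀ i, jM i ≫ F = f i ≫ jE i)
    (hN : ∀ i (φ : K ⟶ N i), φ = 0) (hR : ∀ φ : K ⟶ R, φ = 0) (hR' : ∀ φ : K⟦(1 : ℤ)⟧ ⟶ R, φ = 0)
    (h : FinSum K jM) : FinSum K jE := by
  refine ⟨fun φ => ?_, fun S t ht i hi => ?_⟩
  · obtain ⟨ψ, hψ⟩ := Triangle.coyoneda_exact₂ _ hS φ (hR _)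
    obtain ⟨S, t, ht⟩ := h.1 ψ
    refine ⟨S, fun i => t i ≫ f i, hψ.trans ((congrArg (· ≫ F) ht).trans ?_)⟩
    rw [Preadditive.sum_comp]
    exact Finset.sum_congr rfl fun i _ => by rw [Category.assoc, Category.assoc, w]
  · have h3 : ∀ i, ∃ t' : K ⟶ M i, t i = t' ≫ f i := fun i => Triangle.coyoneda_exact₂ _ (hT i) (t i) (hN i _)
    choose t' ht' using h3
    have h0 : (∑ j ∈ S, t' j ≫ jM j) ≫ F = 0 := by
      rw [Preadditive.sum_comp, ← ht]
      exact Finset.sum_congr rfl fun j _ => by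
        rw [Category.assoc, w, ← Category.assoc]
        exact congrArg (· ≫ jE j) (ht' j).symm
    have h1 : ((∑ j ∈ S, t' j ≫ jM j)⟦(1 : ℤ)⟧') ≫ F⟦(1 : ℤ)⟧' = 0 := by
      rw [← Functor.map_comp, h0, Functor.map_zero]
    obtain ⟨ξ, hξ⟩ := Triangle.coyoneda_exact₁ _ hS ((∑ j ∈ S, t' j ≫ jM j)⟦(1 : ℤ)⟧') h1
    have h2 : (∑ j ∈ S, t' j ≫ jM j) = 0 := (shiftFunctor D (1 : ℤ)).map_injective
      (hξ.trans (((congrArg (· ≫ _) (hR' ξ)).trans zero_comp).trans (Functor.map_zero _ _ _).symm))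
    rw [ht' i, h.2 S t' h2 i hi]
    exact zero_comp

/-- killing the first terms -/
theorem finSum_of_first {K : D} {M E N : I → D} {P Q R : D} {jE : ∀ i, E i ⟶ Q} {jN : ∀ i, N i ⟶ R}
    (f : ∀ i, M i ⟶ E i) (g : ∀ i, E i ⟶ N i) (δ : ∀ i, N i ⟶ (M i)⟦(1 : ℤ)⟧)
    (hT : ∀ i, Triangle.mk (f i) (g i) (δ i) ∈ distinguishedTriangles)
    (F : P ⟶ Q) (G : Q ⟶ R) (Δ : R ⟶ P⟦(1 : ℤ)⟧) (hS : Triangle.mk F G Δ ∈ distinguishedTriangles)
    (w : ∀ i, jE i ≫ G = g i ≫ jN i)
    (hM : ∀ i (φ : K ⟶ M i), φ = 0) (hM' : ∀ i (φ : K ⟶ (M i)⟦(1 : ℤ)⟧), φ = 0)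
    (hP : ∀ φ : K ⟶ P, φ = 0) (h : FinSum K jN) : FinSum K jE := by
  refine ⟨fun φ => ?_, fun S t ht i hi => ?_⟩
  · obtain ⟨S, t, ht⟩ := h.1 (φ ≫ G)
    have h3 : ∀ i, ∃ t' : K ⟶ E i, t i = t' ≫ g i := fun i =>
      Triangle.coyoneda_exact₃ _ (hT i) (t i) (hM' i _)
    choose t' ht' using h3
    obtain ⟨ξ, hξ⟩ := Triangle.coyoneda_exact₂ _ hS (φ - ∑ j ∈ S, t' j ≫ jE j) (by
      change (φ - ∑ j ∈ S, t' j ≫ jE j) ≫ G = 0
      rw [Preadditive.sub_comp, sub_eq_zero, ht, Preadditive.sum_comp]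
      exact Finset.sum_congr rfl fun j _ => by
        rw [Category.assoc, w, ← Category.assoc]
        exact congrArg (· ≫ jN j) (ht' j))
    refine ⟨S, t', ?_⟩
    rw [hP ξ] at hξ
    exact sub_eq_zero.1 (hξ.trans zero_comp)
  · have h0 : ∑ j ∈ S, (t j ≫ g j) ≫ jN j = 0 := by
      refine Eq.trans ?_ ((congrArg (· ≫ G) ht).trans zero_comp)
      rw [Preadditive.sum_comp]
      exact Finset.sum_congr rfl fun j _ => by rw [Category.assoc, Category.assoc, w]
    obtain ⟨ξ, hξ⟩ := Triangle.coyoneda_exact₂ _ (hT i) (t i) (h.2 S (fun j => t j ≫ g j) h0 i hi)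
    rw [hξ, hM i ξ]
    exact zero_comp

end Generic

variable {X : Scheme.{u}} [CompactSpace X] [QuasiSeparatedSpace X]

/-- a perfect object is compact in `D_QCoh` -/
theorem finSum_of_isPerfect {K : DCoh.D X} (hK : DCoh.IsPerfect K) {ι : Type u} (E : ι → DCoh.D X)
    (hE : ∀ i, DCoh.IsQCohD (E i)) (c : Cofan E) (hc : IsColimit c) : FinSum K c.inj := by
  refine KFlat.CompactOne.FinSum.of_cofan (coproductIsCoproduct E) hc ?_
  obtain ⟨⟨a, b, hab, hvan⟩, -⟩ := Groth.Agent.S1011.result X K hK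
  let t := TStructure.t (C := X.Modules)
  let m : ℤ := a - 2
  let T := fun i => (t.triangleLTGE m).obj (E i)
  have hT : ∀ i, T i ∈ distinguishedTriangles := fun i => t.triangleLTGE_distinguished m (E i)
  have hT₀ := Groth.Agent.DHA.Brown.coproductTriangle_distinguished T hT
  have hle : ∀ (i : ι) (k : ℤ), m ≤ k → IsZero (DCoh.HD (T i).obj₁ k) := fun i k hk =>
    have : ((t.truncLT m).obj (E i)).IsLE (m - 1) := inferInstance
    isZero_of_isLE ((t.truncLT m).obj (E i)) (m - 1) k (by omega)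
  refine finSum_of_first (fun i => (T i).mor₁) (fun i => (T i).mor₂) (fun i => (T i).mor₃) hT _ _ _ hT₀
    (jN := fun i => Sigma.ι (fun i => (T i).obj₃) i)
    (fun i => Limits.Sigma.ι_map (fun i => (T i).mor₂) i)
    (fun i φ => hvan _ (QC.isQCohD_truncLT (hE i) m) (fun k hk _ => hle i k (by omega)) φ)
    (fun i φ => hvan _ (QC.isQCohD_shift (QC.isQCohD_truncLT (hE i) m) 1)
      (fun k hk _ => (hle i (k + 1) (by omega)).of_iso
        (((DerivedCategory.homologyFunctor X.Modules 0).shiftIso (1 : ℤ) k (k + 1) (by omega)).app _)) φ)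
    (fun φ => hvan _ (Groth.Agent.S1040.result X (fun i => (T i).obj₁) fun i => QC.isQCohD_truncLT (hE i) m)
      (fun k hk _ => by
        have := QC.preservesColimit_homology (fun i => (T i).obj₁) k
        rw [IsZero.iff_id_eq_zero]
        refine Cofan.IsColimit.hom_ext
          (isColimitCofanMkObjOfIsColimit (homologyFunctor X.Modules k) (fun i => (T i).obj₁) _ (coproductIsCoproduct _)) _ _ fun i => ?_
        exact (hle i k (by omega)).eq_of_src _ _) φ) ?_
  exact KFlat.PerfectCompact.finSum_perfect K hK _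
    (Or.inr ⟨m, fun i => inferInstanceAs (((t.truncGE m).obj (E i)).IsGE m)⟩) _ (coproductIsCoproduct _)

/-- a compact object of `D_QCoh` is perfect -/
theorem isPerfect_of_compact {K : DCoh.D X} (hq : DCoh.IsQCohD K)
    (hK : ∀ (ι : Type u) (E : ι → DCoh.D X), (∀ i, DCoh.IsQCohD (E i)) →
      ∀ (c : Cofan E), IsColimit c → FinSum K c.inj) : DCoh.IsPerfect K := by
  refine (Perfect.near_iff K).mpr fun x => ?_
  obtain ⟨V, hV, hx, -⟩ := exists_isAffineOpen_mem_and_subset (X := X) (x := x) (U := ⊤) trivial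
  have : IsAffine (V : Scheme.{u}) := hV
  have : QuasiCompact V.ι := AlgebraicGeometry.quasiCompact_of_compactSpace V.ι
  have := KFlat.RPush.hasRpush V.ι
  obtain ⟨adj⟩ := exists_adj (X := X) V.ι
  obtain ⟨M, ⟨eM⟩⟩ := exists_iso_T (V : Scheme.{u}) (isQCohD_restrict V.ι hq)
  let A := Γ((V : Scheme.{u}), ⊤)
  suffices hM : DRing.IsPerfect A M by
    obtain ⟨U', j, hj, ⟨y, hy⟩, hsp⟩ := (Perfect.near_iff _).mp
      (Perfect.isPerfect_of_iso eM ((isPerfect_T_iff _ M).2 hM)) ⟨x, hx⟩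
    exact ⟨U', j ≫ V.ι, inferInstance, ⟨y, by simp [hy]⟩,
      Perfect.isSP_of_iso (Perfect.restrComp j V.ι (j ≫ V.ι) rfl K) hsp⟩
  refine (Groth.Agent.S6978.result A M).2 fun I E _ => ?_
  let d : Cofan E := Cofan.mk (∐ fun i : ULift.{u + 1} I => E i.down)
    fun i => Sigma.ι (fun i : ULift.{u + 1} I => E i.down) ⟨i⟩
  have hd : IsColimit d := Cofan.isColimitEquivOfEquiv Equiv.ulift.symm
    (Cofan.mk (∐ fun i : ULift.{u + 1} I => E i.down) (Sigma.ι fun i : ULift.{u + 1} I => E i.down))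
    (coproductIsCoproduct _)
  refine KFlat.CompactOne.homSum_bijective _ Equiv.ulift hd (finSum_of_functor (T (V : Scheme.{u})) ?_)
  have := Groth.Agent.DEq.AffineGen.isLeftAdjoint_restrictD (V : Scheme.{u}).isoSpec.hom
  have : (DCoh.tildeD (CommRingCat.of A)).IsLeftAdjoint :=
    Groth.Agent.IndCoh.isLeftAdjoint_mapDerivedCategory (tilde.functor (CommRingCat.of A))
  have hd' := isColimitCofanMkObjOfIsColimit (T (V : Scheme.{u})) _ _ hd
  let E' := fun i : I => (T (V : Scheme.{u})).obj (E i)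
  have : IsIso (sigmaComparison (DCoh.Rpush V.ι) E') :=
    QC.isIso_sigmaComparison_Rpush V.ι E' fun i => isQCohD_T _ _
  have := PreservesCoproduct.of_iso_comparison (DCoh.Rpush V.ι) E'
  have hd'' := isColimitCofanMkObjOfIsColimit (DCoh.Rpush V.ι) _ _ hd'
  refine KFlat.PerfectCompact.finSum_of_src eM.symm (KFlat.PerfectCompact.finSum_of_adj adj ?_)
  exact hK I _ (fun i => QC.isQCohD_Rpush V.ι _ (isQCohD_T _ _)) _ hd''

/-- compactness among supported objects implies compactness -/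
theorem finSum_of_supported {K : DCoh.D X} (W : X.Opens) (hW : IsCompact (W : Set X))
    (hKW : IsZero ((DCoh.restrictD W.ι).obj K))
    (hK : ∀ (ι : Type u) (E : ι → DCoh.D X), (∀ i, DCoh.IsQCohD (E i) ∧ IsZero ((DCoh.restrictD W.ι).obj (E i))) →
      ∀ (c : Cofan E), IsColimit c → FinSum K c.inj)
    (ι : Type u) (E : ι → DCoh.D X) (hE : ∀ i, DCoh.IsQCohD (E i)) (c : Cofan E) (hc : IsColimit c) :
    FinSum K c.inj := by
  refine KFlat.CompactOne.FinSum.of_cofan (coproductIsCoproduct E) hc ?_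
  have : CompactSpace (W : Scheme.{u}) := isCompact_iff_compactSpace.1 hW
  have : QuasiCompact W.ι := AlgebraicGeometry.quasiCompact_of_compactSpace W.ι
  have := KFlat.RPush.hasRpush W.ι
  obtain ⟨adj⟩ := exists_adj (X := X) W.ι
  let N := fun i => (DCoh.Rpush W.ι).obj ((DCoh.restrictD W.ι).obj (E i))
  choose F f δ hT using fun i => distinguished_cocone_triangle₁ (adj.unit.app (E i))
  have hNq : ∀ i, DCoh.IsQCohD (N i) := fun i => QC.isQCohD_Rpush W.ι _ (isQCohD_restrict W.ι (hE i))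
  have hFq : ∀ i, DCoh.IsQCohD (F i) := fun i =>
    Groth.Agent.PCohD.isQCohD_obj₃ _ (inv_rot_of_distTriang _ (inv_rot_of_distTriang _ (hT i)))
      (QC.isQCohD_shift (hE i) (-1)) (QC.isQCohD_shift (hNq i) (-1))
  have hFW : ∀ i, IsZero ((DCoh.restrictD W.ι).obj (F i)) := fun i =>
    (Triangle.isZero₁_iff_isIso₂ _ ((DCoh.restrictD W.ι).map_distinguished _ (hT i))).2
      (Kosz.isIso_restrict_unit W adj (E i))
  let T := fun i => Triangle.mk (f i) (adj.unit.app (E i)) (δ i)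
  have hT₀ := Groth.Agent.DHA.Brown.coproductTriangle_distinguished T hT
  let Y := fun i => (DCoh.restrictD W.ι).obj (E i)
  have : IsIso (sigmaComparison (DCoh.Rpush W.ι) Y) :=
    QC.isIso_sigmaComparison_Rpush W.ι Y fun i => isQCohD_restrict W.ι (hE i)
  let e : (∐ fun i => (T i).obj₃) ≅ (DCoh.Rpush W.ι).obj (∐ Y) := @asIso _ _ _ _ (sigmaComparison (DCoh.Rpush W.ι) Y) this
  have hz : ∀ (K' : DCoh.D X), IsZero ((DCoh.restrictD W.ι).obj K') → ∀ (Z : DCoh.D (W : Scheme.{u}))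
      (φ : K' ⟶ (DCoh.Rpush W.ι).obj Z), φ = 0 := fun K' hK' Z φ =>
    (adj.homEquiv _ _).symm.injective (hK'.eq_of_src _ _)
  refine finSum_of_third f (fun i => adj.unit.app (E i)) δ hT _ _ _ hT₀
    (jM := fun i => Sigma.ι (fun i => (T i).obj₁) i) (fun i => Limits.Sigma.ι_map (fun i => (T i).mor₁) i)
    (fun i φ => hz K hKW _ φ)
    (fun φ => (cancel_mono e.hom).1 ((hz K hKW _ _).trans zero_comp.symm))
    (fun φ => (cancel_mono e.hom).1 ((hz _ (((shiftFunctor _ (1 : ℤ)).map_isZero hKW).of_iso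
      (((DCoh.restrictD W.ι).commShiftIso (1 : ℤ)).app K)) _ _).trans zero_comp.symm))
    (hK ι F (fun i => ⟨hFq i, hFW i⟩) _ (coproductIsCoproduct _))

end Groth.Agent.PerfExt
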