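import Groth.Agent.PerfExt.Local
import Groth.Agent.PCohD.RpushAffine

/-!
# Perfect generators with support
-/

set_option autoImplicit false

universe u

open CategoryTheory CategoryTheory.Limits AlgebraicGeometry Pretriangulated DerivedCategory
open Groth.Agent.PerfTri Groth.Agent.CohDerLib
open scoped ZeroObject

attribute [local instance] HasDerivedCategory.standard

noncomputable section

namespace Groth.Agent.PerfExt

/-- a perfect generator supported away from `W` -/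
def HasGen (X : Scheme.{u}) : Prop :=
  ∀ W : X.Opens, IsCompact (W : Set X) →
    ∃ P : DCoh.D X, DCoh.IsPerfect P ∧ IsZero ((DCoh.restrictD W.ι).obj P) ∧
      ∀ E : DCoh.D X, DCoh.IsQCohD E → IsZero ((DCoh.restrictD W.ι).obj E) → Orth P E → IsZero E

variable {X : Scheme.{u}} [QuasiSeparatedSpace X]

/-- the Koszul part: objects orthogonal to it are supported by their restriction to `U` -/
theorem exists_koszul (U V W : X.Opens) (hUV : U ⊔ V = ⊤) [IsAffine (V : Scheme.{u})]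
    [CompactSpace X] (hU : IsCompact (U : Set X)) (hW : IsCompact (W : Set X)) :
    ∃ Q : DCoh.D X, DCoh.IsPerfect Q ∧ IsZero ((DCoh.restrictD U.ι).obj Q) ∧
      IsZero ((DCoh.restrictD W.ι).obj Q) ∧
      ∀ E : DCoh.D X, DCoh.IsQCohD E → IsZero ((DCoh.restrictD W.ι).obj E) → Orth Q E →
        IsZero ((DCoh.restrictD U.ι).obj E) → IsZero E := by
  let O : (V : Scheme.{u}).Opens := V.ι ⁻¹ᵁ (U ⊔ W)
  have hUW : IsCompact ((U ⊔ W : X.Opens) : Set X) := hU.union hW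
  have : CompactSpace (V : Scheme.{u}) := inferInstance
  have : QuasiCompact V.ι := AlgebraicGeometry.quasiCompact_of_compactSpace V.ι
  have hO : IsCompact (O : Set (V : Scheme.{u})) :=
    QuasiCompact.isCompact_preimage (f := V.ι) _ (U ⊔ W).isOpen hUW
  obtain ⟨fs, hfs⟩ := exists_isZero_iff (V : Scheme.{u}) O hO
  let K := (T (V : Scheme.{u})).obj (Kosz.KD fs)
  have hKp : DCoh.IsPerfect K := (isPerfect_T_iff _ _).2 (perfect_KD fs)
  have hKO : IsZero ((DCoh.restrictD O.ι).obj K) := (hfs _).2 fun g hg => Kosz.hTors_koszul fs g hg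
  let T₀ : Set X := ((U ⊔ W : X.Opens) : Set X)ᶜ
  have hT₀V : T₀ ⊆ (V : Set X) := fun x hx => by
    have h1 : x ∈ U ⊔ V := by rw [hUV]; trivial
    rcases h1 with h | h
    · exact absurd (Or.inl h) hx
    · exact h
  let T' : Set (V : Scheme.{u}) := (O : Set (V : Scheme.{u}))ᶜ
  have hK : ∀ i, CohB1.support (DCoh.HD K i) ⊆ T' := fun i => support_subset_of_isZero_restrict O hKO i
  have himg : (fun x : (V : Scheme.{u}) => V.ι.base x) '' T' = T₀ := by
    ext x
    constructor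
    · rintro ⟨y, hy, rfl⟩; exact hy
    · intro hx; exact ⟨⟨x, hT₀V hx⟩, hx, rfl⟩
  have := KFlat.RPush.hasRpush V.ι
  obtain ⟨eQ⟩ := (Groth.Agent.S6528.result V T₀ (U ⊔ W).isOpen.isClosed_compl hT₀V).2 K fun i => by
    rw [← himg]; exact Set.image_mono (hK i)
  let Q := (CxOX.extZeroD V.ι).obj K
  have hQp : DCoh.IsPerfect Q := Perfect.isPerfect_of_iso eQ.symm
    (Groth.Agent.S6519.result V K hKp T' O.isOpen.isClosed_compl (by
      rw [himg]; exact (U ⊔ W).isOpen.isClosed_compl) hK)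
  have hQz : ∀ A : X.Opens, A ≤ U ⊔ W → IsZero ((DCoh.restrictD A.ι).obj Q) := fun A hA => by
    have := KFlat.RPush.hasRpush (V.ι ∣_ A)
    refine IsZero.of_iso ?_ ((DCoh.restrictD A.ι).mapIso eQ)
    refine ((DCoh.Rpush (V.ι ∣_ A)).map_isZero ?_).of_iso ((KFlat.RPushBase.restrictRpushIso V.ι A).app K)
    exact isZero_restrict_of_range O _ (by
      rw [Scheme.Opens.range_ι]
      exact fun y hy => hA hy) hKO
  refine ⟨Q, hQp, hQz U le_sup_left, hQz W le_sup_right, fun E hE hEW hQE hEU => ?_⟩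
  refine isZero_of_cover U V hUV hEU ?_
  let EV := (DCoh.restrictD V.ι).obj E
  obtain ⟨M, ⟨eM⟩⟩ := exists_iso_T (V : Scheme.{u}) (isQCohD_restrict V.ι hE)
  refine isZero_of_orth fs M eM ((hfs M).1 ?_) ((orth_adj (KFlat.ExtZero.extZeroDAdj V)).1 hQE)
  refine IsZero.of_iso ?_ ((DCoh.restrictD O.ι).mapIso eM)
  refine IsZero.of_iso ?_ ((restrictDComp O.ι V.ι (O.ι ≫ V.ι) rfl).app E)
  refine isZero_restrict_of_range (U ⊔ W) _ ?_ ?_
  · rintro _ ⟨z, rfl⟩; exact z.2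
  · let U₁ : ((U ⊔ W : X.Opens) : Scheme.{u}).Opens := (U ⊔ W).ι ⁻¹ᵁ U
    let W₁ : ((U ⊔ W : X.Opens) : Scheme.{u}).Opens := (U ⊔ W).ι ⁻¹ᵁ W
    refine isZero_of_cover U₁ W₁ (top_le_iff.1 fun z _ => z.2) ?_ ?_
    · exact (isZero_restrict_of_range U (U₁.ι ≫ (U ⊔ W).ι) (by rintro _ ⟨z, rfl⟩; exact z.2) hEU).of_iso
        ((restrictDComp U₁.ι (U ⊔ W).ι (U₁.ι ≫ (U ⊔ W).ι) rfl).app E)
    · exact (isZero_restrict_of_range W (W₁.ι ≫ (U ⊔ W).ι) (by rintro _ ⟨z, rfl⟩; exact z.2) hEW).of_iso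
        ((restrictDComp W₁.ι (U ⊔ W).ι (W₁.ι ≫ (U ⊔ W).ι) rfl).app E)

/-- gluing: a perfect object on `U`, doubled, extends to `X` -/
theorem exists_extension (U V W : X.Opens) (hUV : U ⊔ V = ⊤) [IsAffine (V : Scheme.{u})]
    (hU : IsCompact (U : Set X)) (hW : IsCompact (W : Set X))
    (P : DCoh.D (U : Scheme.{u})) (hP : DCoh.IsPerfect P)
    (hPW : IsZero ((DCoh.restrictD (U.ι ⁻¹ᵁ W).ι).obj P)) [HasBinaryBiproduct P (P⟦(1 : ℤ)⟧)] :
    ∃ R : DCoh.D X, DCoh.IsPerfect R ∧ IsZero ((DCoh.restrictD W.ι).obj R) ∧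
      Nonempty ((DCoh.restrictD U.ι).obj R ≅ P ⊞ P⟦(1 : ℤ)⟧) := by
  have := HasBinaryBiproducts.of_hasBinaryProducts (C := DCoh.D (U : Scheme.{u}))
  let A := P ⊞ P⟦(1 : ℤ)⟧
  have := KFlat.RPush.hasRpush U.ι
  have := KFlat.RPush.hasRpush V.ι
  obtain ⟨adjV⟩ := exists_adj (X := X) V.ι
  let N := (DCoh.restrictD V.ι).obj ((DCoh.Rpush U.ι).obj A)
  let O : (V : Scheme.{u}).Opens := V.ι ⁻¹ᵁ U
  let WV : (V : Scheme.{u}).Opens := V.ι ⁻¹ᵁ W
  have : CompactSpace (V : Scheme.{u}) := inferInstance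
  have : QuasiCompact V.ι := AlgebraicGeometry.quasiCompact_of_compactSpace V.ι
  have hO : IsCompact (O : Set (V : Scheme.{u})) := QuasiCompact.isCompact_preimage (f := V.ι) _ U.isOpen hU
  have hWV : IsCompact (WV : Set (V : Scheme.{u})) := QuasiCompact.isCompact_preimage (f := V.ι) _ W.isOpen hW
  -- `O → U`
  let m := IsOpenImmersion.lift U.ι (O.ι ≫ V.ι) (by
    rintro _ ⟨z, rfl⟩; rw [Scheme.Opens.range_ι]; exact z.2)
  have : IsOpenImmersion m := by
    have : IsOpenImmersion (m ≫ U.ι) := by rw [IsOpenImmersion.lift_fac]; infer_instance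
    exact IsOpenImmersion.of_comp m U.ι
  let eNO : (DCoh.restrictD O.ι).obj N ≅ (DCoh.restrictD m).obj A :=
    (restrictDComp O.ι V.ι (O.ι ≫ V.ι) rfl).app _ ≪≫
      ((restrictDComp m U.ι (O.ι ≫ V.ι) (IsOpenImmersion.lift_fac _ _ _)).app _).symm ≪≫
      (DCoh.restrictD m).mapIso ((Kosz.restrictRpushSelf U).app A)
  let B := (DCoh.restrictD m).obj P
  have hBW : IsZero ((DCoh.restrictD (O.ι ⁻¹ᵁ WV).ι).obj B) :=
    (isZero_restrict_of_range (U.ι ⁻¹ᵁ W) ((O.ι ⁻¹ᵁ WV).ι ≫ m) (by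
      rintro _ ⟨z, rfl⟩
      show U.ι (m ((O.ι ⁻¹ᵁ WV).ι z)) ∈ W
      rw [← Scheme.Hom.comp_apply m U.ι, IsOpenImmersion.lift_fac]
      exact z.2) hPW).of_iso ((restrictDComp (O.ι ⁻¹ᵁ WV).ι m _ rfl).app P)
  have := HasBinaryBiproducts.of_hasBinaryProducts (C := DCoh.D (O : Scheme.{u}))
  have : PreservesBinaryBiproducts (DCoh.restrictD m) := preservesBinaryBiproducts_of_preservesBiproducts _
  obtain ⟨M, hM, hMW, ⟨eM⟩⟩ := thomason_supp O hO WV hWV B (isPerfect_restrict m hP) hBW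
  let R' := (T (V : Scheme.{u})).obj M
  let eR : (DCoh.restrictD O.ι).obj R' ≅ (DCoh.restrictD O.ι).obj N :=
    eM ≪≫ biprod.mapIso (Iso.refl _) (((DCoh.restrictD m).commShiftIso (1 : ℤ)).app P).symm ≪≫
      ((DCoh.restrictD m).mapBiprod P (P⟦(1 : ℤ)⟧)).symm ≪≫ eNO.symm
  have := KFlat.RPush.hasRpush O.ι
  obtain ⟨adjO⟩ := exists_adj (X := (V : Scheme.{u})) O.ι
  -- the unit at `N` is an isomorphism
  have hN : IsIso (adjO.unit.app N) := by
    have := KFlat.RPush.hasRpush (U.ι ∣_ V)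
    have := KFlat.RPush.hasRpush (U.ι ⁻¹ᵁ V).ι
    let k' := U.ι ∣_ V
    have hk' : Set.range k' ⊆ Set.range O.ι := by
      rw [Scheme.Opens.range_ι]
      rintro _ ⟨z, rfl⟩
      show V.ι (k' z) ∈ U
      rw [← Scheme.Hom.comp_apply k' V.ι, morphismRestrict_ι]
      exact ((U.ι ⁻¹ᵁ V).ι z).2
    let l := IsOpenImmersion.lift O.ι k' hk'
    have : IsOpenImmersion l := by
      have : IsOpenImmersion (l ≫ O.ι) := by rw [IsOpenImmersion.lift_fac]; infer_instance
      exact IsOpenImmersion.of_comp l O.ι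
    have := KFlat.RPush.hasRpush l
    have := KFlat.RPush.hasRpush (l ≫ O.ι)
    have hl : l ≫ O.ι = U.ι ∣_ V := IsOpenImmersion.lift_fac _ _ _
    let Y := (DCoh.restrictD (U.ι ⁻¹ᵁ V).ι).obj A
    have e1 : Nonempty ((DCoh.Rpush O.ι).obj ((DCoh.Rpush l).obj Y) ≅ (DCoh.Rpush (U.ι ∣_ V)).obj Y) :=
      ⟨(KFlat.RPush.rpushCompIso l O.ι).app Y ≪≫ eqToIso (by congr 2)⟩
    obtain ⟨e1⟩ := e1
    let e : (DCoh.Rpush O.ι).obj ((DCoh.Rpush l).obj Y) ≅ N :=
      e1 ≪≫ ((KFlat.RPushBase.restrictRpushIso U.ι V).app A).symm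
    have := adjO.isIso_counit_of_iso (Kosz.restrictRpushSelf O)
    have : IsIso (adjO.unit.app ((DCoh.Rpush O.ι).obj ((DCoh.Rpush l).obj Y))) :=
      (IsIso.eq_inv_of_inv_hom_id (adjO.right_triangle_components ((DCoh.Rpush l).obj Y))) ▸ inferInstance
    exact (NatTrans.isIso_app_iff_of_iso adjO.unit e).1 this
  let u : R' ⟶ N := adjO.homEquiv _ _ eR.hom ≫ inv (adjO.unit.app N)
  have huO : IsIso ((DCoh.restrictD O.ι).map u) := by
    have h1 := Kosz.isIso_restrict_unit O adjO R'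
    have h2 := Kosz.isIso_restrict_unit O adjO N
    have : u = adjO.unit.app R' ≫ (DCoh.Rpush O.ι).map eR.hom ≫ inv (adjO.unit.app N) := by
      simp [u, Adjunction.homEquiv_unit]
    rw [this, Functor.map_comp, Functor.map_comp]
    infer_instance
  obtain ⟨C, c, d, hC⟩ := distinguished_cocone_triangle u
  have hCO : IsZero ((DCoh.restrictD O.ι).obj C) :=
    (Triangle.isZero₃_iff_isIso₁ _ ((DCoh.restrictD O.ι).map_distinguished _ hC)).2 huO
  obtain ⟨adjU⟩ := exists_adj (X := X) U.ι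
  let C' := (DCoh.Rpush V.ι).obj C
  have := adjV.isIso_counit_of_iso (Kosz.restrictRpushSelf V)
  let ψ : (DCoh.Rpush U.ι).obj A ⟶ C' := adjV.homEquiv _ _ c
  obtain ⟨R, r, s, hR⟩ := distinguished_cocone_triangle₁ ψ
  have hC'U : IsZero ((DCoh.restrictD U.ι).obj C') := by
    have := KFlat.RPush.hasRpush (V.ι ∣_ U)
    exact ((DCoh.Rpush (V.ι ∣_ U)).map_isZero hCO).of_iso ((KFlat.RPushBase.restrictRpushIso V.ι U).app C)
  have hRU : IsIso ((DCoh.restrictD U.ι).map r) :=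
    (Triangle.isZero₃_iff_isIso₁ _ ((DCoh.restrictD U.ι).map_distinguished _ hR)).1 hC'U
  let eRU : (DCoh.restrictD U.ι).obj R ≅ A :=
    @asIso _ _ _ _ _ hRU ≪≫ (Kosz.restrictRpushSelf U).app A
  let eRV : (DCoh.restrictD V.ι).obj R ≅ R' := by
    have : IsIso (adjV.counit.app C) := inferInstanceAs (IsIso (adjV.counit.app C))
    refine (shiftFunctor (DCoh.D (V : Scheme.{u})) (1 : ℤ)).preimageIso (Triangle.π₃.mapIso (isoTriangleOfIso₁₂
      ((DCoh.restrictD V.ι).mapTriangle.obj (Triangle.mk r ψ s)).rotate (Triangle.mk u c d).rotate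
      (rot_of_distTriang _ ((DCoh.restrictD V.ι).map_distinguished _ hR)) (rot_of_distTriang _ hC) (Iso.refl N)
      (@asIso _ _ _ _ (adjV.counit.app C) this :) ?_))
    change (DCoh.restrictD V.ι).map ψ ≫ adjV.counit.app C = 𝟙 N ≫ c
    rw [Category.id_comp]
    exact ((adjV.homEquiv_counit _ _ _).symm.trans ((adjV.homEquiv _ _).symm_apply_apply c))
  refine ⟨R, isPerfect_of_cover U V hUV (Perfect.isPerfect_of_iso eRU.symm ?_)
    (Perfect.isPerfect_of_iso eRV.symm ((isPerfect_T_iff _ M).2 hM)), ?_, ⟨eRU⟩⟩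
  · exact Perfect.isPerfect₂ _ (binaryBiproductTriangle_distinguished P (P⟦(1 : ℤ)⟧)) hP (Perfect.isPerfect_shift hP 1)
  · let U₁ : (W : Scheme.{u}).Opens := W.ι ⁻¹ᵁ U
    let V₁ : (W : Scheme.{u}).Opens := W.ι ⁻¹ᵁ V
    refine isZero_of_cover U₁ V₁ (top_le_iff.1 fun z _ => by
      have : W.ι z ∈ U ⊔ V := by rw [hUV]; trivial
      exact this) ?_ ?_
    · let l := IsOpenImmersion.lift U.ι (U₁.ι ≫ W.ι) (by rintro _ ⟨z, rfl⟩; rw [Scheme.Opens.range_ι]; exact z.2)
      have : IsOpenImmersion l := by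
        have : IsOpenImmersion (l ≫ U.ι) := by rw [IsOpenImmersion.lift_fac]; infer_instance
        exact IsOpenImmersion.of_comp l U.ι
      have hl : Set.range l ⊆ (U.ι ⁻¹ᵁ W : (U : Scheme.{u}).Opens) := by
        rintro _ ⟨z, rfl⟩
        show U.ι (l z) ∈ W
        rw [← Scheme.Hom.comp_apply l U.ι, IsOpenImmersion.lift_fac]
        exact (U₁.ι z).2
      have : PreservesBinaryBiproducts (DCoh.restrictD l) := preservesBinaryBiproducts_of_preservesBiproducts _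
      refine IsZero.of_iso ?_ ((restrictDComp U₁.ι W.ι (U₁.ι ≫ W.ι) rfl).app R ≪≫
        ((restrictDComp l U.ι (U₁.ι ≫ W.ι) (IsOpenImmersion.lift_fac _ _ _)).app R).symm ≪≫
        (DCoh.restrictD l).mapIso eRU)
      have hz1 := isZero_restrict_of_range (U.ι ⁻¹ᵁ W) l hl hPW
      have := HasBinaryBiproducts.of_hasBinaryProducts (C := DCoh.D (U₁ : Scheme.{u}))
      exact ((biprod_isZero_iff _ _).2 ⟨hz1, ((shiftFunctor _ (1 : ℤ)).map_isZero hz1).of_iso
        (((DCoh.restrictD l).commShiftIso (1 : ℤ)).app P)⟩).of_iso ((DCoh.restrictD l).mapBiprod P (P⟦(1 : ℤ)⟧))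
    · let l := IsOpenImmersion.lift V.ι (V₁.ι ≫ W.ι) (by rintro _ ⟨z, rfl⟩; rw [Scheme.Opens.range_ι]; exact z.2)
      have : IsOpenImmersion l := by
        have : IsOpenImmersion (l ≫ V.ι) := by rw [IsOpenImmersion.lift_fac]; infer_instance
        exact IsOpenImmersion.of_comp l V.ι
      exact (isZero_restrict_of_range WV l (by
        rintro _ ⟨z, rfl⟩
        show V.ι (l z) ∈ W
        rw [← Scheme.Hom.comp_apply l V.ι, IsOpenImmersion.lift_fac]
        exact (V₁.ι z).2) hMW).of_iso ((restrictDComp V₁.ι W.ι (V₁.ι ≫ W.ι) rfl).app R ≪≫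
        ((restrictDComp l V.ι (V₁.ι ≫ W.ι) (IsOpenImmersion.lift_fac _ _ _)).app R).symm ≪≫
        (DCoh.restrictD l).mapIso eRV)

/-- every quasi-compact quasi-separated scheme has a perfect generator with support -/
theorem hasGen (X : Scheme.{u}) [CompactSpace X] [QuasiSeparatedSpace X] : HasGen X := by
  suffices h : ∀ S : X.Opens, IsCompact (S : Set X) →
      ∀ (Y : Scheme.{u}) (j : Y ⟶ X) [IsOpenImmersion j], Set.range j = (S : Set X) → HasGen Y from
    h ⊤ isCompact_univ X (𝟙 X) (by simp)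
  intro S hS
  refine compact_open_induction_on (P := fun S : X.Opens =>
    ∀ (Y : Scheme.{u}) (j : Y ⟶ X) [IsOpenImmersion j], Set.range j = (S : Set X) → HasGen Y) S hS ?_ ?_
  · intro Y j _ hj W _
    have : IsEmpty Y := ⟨fun y => by
      have : j y ∈ Set.range j := ⟨y, rfl⟩
      rw [hj] at this
      exact this⟩
    have hz : ∀ E : DCoh.D Y, IsZero E := fun E => by
      have hb : IsZero ((DCoh.restrictD (⊥ : Y.Opens).ι).obj E) := isZero_restrict_of_support ⊥ fun i x _ => isEmptyElim x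
      exact isZero_of_cover ⊥ ⊥ (top_le_iff.1 fun x _ => isEmptyElim x) hb hb
    obtain ⟨A⟩ : Nonempty (DCoh.D Y) := ⟨DerivedCategory.Q.obj (0 : CochainComplex Y.Modules ℤ)⟩
    exact ⟨A, Perfect.isPerfect_zero (hz A), Functor.map_isZero _ (hz A), fun E _ _ _ => hz E⟩
  · intro S₀ hS₀ V₀ ih Y j _ hj W hW
    have hYc : CompactSpace Y := by
      refine ⟨j.isOpenEmbedding.isInducing.isCompact_iff.2 ?_⟩
      rw [Set.image_univ, hj]
      exact hS₀.union V₀.2.isCompact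
    have hYq : QuasiSeparatedSpace Y := j.isOpenEmbedding.quasiSeparatedSpace
    let U : Y.Opens := j ⁻¹ᵁ S₀
    let V : Y.Opens := j ⁻¹ᵁ V₀
    have hsub : ∀ Z : X.Opens, (Z : Set X) ⊆ (S₀ ⊔ V₀ : X.Opens) → (Z : Set X) ⊆ Set.range j := fun Z hZ => hZ.trans hj.ge
    have hU : IsCompact (U : Set Y) := j.isOpenEmbedding.isInducing.isCompact_preimage' hS₀ (hsub S₀ (fun x hx => Or.inl hx))
    have hUV : U ⊔ V = ⊤ := top_le_iff.1 fun y _ => by
      have h1 : j y ∈ Set.range j := ⟨y, rfl⟩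
      rw [hj] at h1
      exact h1
    have hV : IsAffineOpen V := V₀.2.preimage_of_isOpenImmersion j (hsub V₀ (fun x hx => Or.inr hx))
    have : IsAffine (V : Scheme.{u}) := hV
    have hUr : Set.range (U.ι ≫ j) = (S₀ : Set X) := by
      ext x
      constructor
      · rintro ⟨z, rfl⟩; exact z.2
      · intro hx
        obtain ⟨y, rfl⟩ := hsub S₀ (fun x hx => Or.inl hx) hx
        exact ⟨⟨y, hx⟩, rfl⟩
    have : CompactSpace (U : Scheme.{u}) := isCompact_iff_compactSpace.1 hU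
    have : QuasiCompact U.ι := AlgebraicGeometry.quasiCompact_of_compactSpace U.ι
    obtain ⟨P, hP, hPW, hgen⟩ := ih (U : Scheme.{u}) (U.ι ≫ j) hUr (U.ι ⁻¹ᵁ W)
      (QuasiCompact.isCompact_preimage (f := U.ι) _ W.isOpen hW)
    have := HasBinaryBiproducts.of_hasBinaryProducts (C := DCoh.D (U : Scheme.{u}))
    obtain ⟨Q, hQ, hQU, hQW, hQgen⟩ := exists_koszul U V W hUV hU hW
    obtain ⟨R, hR, hRW, ⟨eR⟩⟩ := exists_extension U V W hUV hU hW P hP hPW
    have := HasBinaryBiproducts.of_hasBinaryProducts (C := DCoh.D Y)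
    have := HasBinaryBiproducts.of_hasBinaryProducts (C := DCoh.D (W : Scheme.{u}))
    have : PreservesBinaryBiproducts (DCoh.restrictD W.ι) := preservesBinaryBiproducts_of_preservesBiproducts _
    refine ⟨R ⊞ Q, Perfect.isPerfect₂ _ (binaryBiproductTriangle_distinguished R Q) hR hQ,
      ((biprod_isZero_iff _ _).2 ⟨hRW, hQW⟩).of_iso ((DCoh.restrictD W.ι).mapBiprod R Q), fun E hE hEW h => ?_⟩
    have hRE : Orth R E := orth_of_retract biprod.inl biprod.fst biprod.inl_fst h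
    have hQE : Orth Q E := orth_of_retract biprod.inr biprod.snd biprod.inr_snd h
    refine hQgen E hE hEW hQE ?_
    have := KFlat.RPush.hasRpush U.ι
    obtain ⟨adj⟩ := exists_adj (X := Y) U.ι
    -- `E → Rj_*(E|U)` is an isomorphism
    have hη : IsIso (adj.unit.app E) := by
      obtain ⟨C, c, d, hC⟩ := distinguished_cocone_triangle (adj.unit.app E)
      refine (Triangle.isZero₃_iff_isIso₁ _ hC).1 ?_
      have hEi := Kosz.isIso_restrict_unit U adj E
      have hNq : DCoh.IsQCohD ((DCoh.Rpush U.ι).obj ((DCoh.restrictD U.ι).obj E)) :=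
        QC.isQCohD_Rpush U.ι _ (isQCohD_restrict U.ι hE)
      have hCq : DCoh.IsQCohD C := Groth.Agent.PCohD.isQCohD_obj₃ _ hC hE hNq
      refine hQgen C hCq ?_ ?_ ((Triangle.isZero₃_iff_isIso₁ _ ((DCoh.restrictD U.ι).map_distinguished _ hC)).2 hEi)
      · refine (Triangle.isZero₃_iff_isIso₁ _ ((DCoh.restrictD W.ι).map_distinguished _ hC)).2 ?_
        refine isIso_of_isInitial hEW.isInitial (IsZero.isInitial ?_) _
        have := KFlat.RPush.hasRpush (U.ι ∣_ W)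
        exact ((DCoh.Rpush (U.ι ∣_ W)).map_isZero ((isZero_restrict_of_range W ((U.ι ⁻¹ᵁ W).ι ≫ U.ι)
          (by rintro _ ⟨z, rfl⟩; exact z.2) hEW).of_iso ((restrictDComp (U.ι ⁻¹ᵁ W).ι U.ι _ rfl).app E))).of_iso
          ((KFlat.RPushBase.restrictRpushIso U.ι W).app _)
      · intro n φ
        have h0 : φ ≫ d = 0 := by
          obtain ⟨ψ, hψ⟩ := (shiftFunctor (DCoh.D Y) (1 : ℤ)).map_surjective
            (((shiftFunctorAdd' (DCoh.D Y) (n - 1) 1 n (by omega)).inv.app Q) ≫ φ ≫ d)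
          rw [hQE (n - 1) ψ, Functor.map_zero] at hψ
          exact (cancel_epi ((shiftFunctorAdd' (DCoh.D Y) (n - 1) 1 n (by omega)).inv.app Q)).1
            (hψ.symm.trans comp_zero.symm)
        obtain ⟨ξ, hξ⟩ := Triangle.coyoneda_exact₃ _ hC φ h0
        have : Orth Q ((DCoh.Rpush U.ι).obj ((DCoh.restrictD U.ι).obj E)) :=
          (orth_adj adj).1 fun n φ => (((shiftFunctor _ n).map_isZero hQU)).eq_of_src _ _
        rw [hξ, this n ξ]
        exact zero_comp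
    have hPE : Orth P ((DCoh.restrictD U.ι).obj E) := by
      refine orth_of_retract (biprod.inl (Y := P⟦(1 : ℤ)⟧)) biprod.fst biprod.inl_fst ?_
      refine orth_of_iso eR (Iso.refl _) ((orth_adj adj).2 ?_)
      exact orth_of_iso (Iso.refl R) (asIso (adj.unit.app E)) hRE
    exact hgen _ (isQCohD_restrict U.ι hE)
      ((isZero_restrict_of_range W ((U.ι ⁻¹ᵁ W).ι ≫ U.ι) (by rintro _ ⟨z, rfl⟩; exact z.2) hEW).of_iso
        ((restrictDComp (U.ι ⁻¹ᵁ W).ι U.ι _ rfl).app E)) hPE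

end Groth.Agent.PerfExt
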