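import Groth.Agent.PerfExt.Compact
import Groth.Agent.QCohD.Factor

/-!
# A generator classically generates the perfect objects
-/

set_option autoImplicit false

universe u

open CategoryTheory CategoryTheory.Limits AlgebraicGeometry Pretriangulated DerivedCategory
open Groth.Agent.PerfTri Groth.Agent.CohDerLib

attribute [local instance] HasDerivedCategory.standard
attribute [-instance] CategoryTheory.ReflQuiver.toQuiver

noncomputable section

namespace Groth.Agent.PerfExt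

variable {X : Scheme.{u}}

/-- closure properties -/
structure ThickClosed (Φ : DCoh.D X → Prop) : Prop where
  zero : ∀ K, IsZero K → Φ K
  iso : ∀ {K L}, (K ≅ L) → Φ K → Φ L
  shift : ∀ K (n : ℤ), Φ K → Φ (K⟦n⟧)
  cone : ∀ T : Triangle (DCoh.D X), T ∈ distinguishedTriangles → Φ T.obj₁ → Φ T.obj₂ → Φ T.obj₃
  retract : ∀ {K L : DCoh.D X} (i : K ⟶ L) (r : L ⟶ K), i ≫ r = 𝟙 K → Φ L → Φ K

/-- every map from a perfect object factors through a perfect object with `Φ` -/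
def FactorsΦ (Φ : DCoh.D X → Prop) (Z : DCoh.D X) : Prop :=
  ∀ F : DCoh.D X, DCoh.IsPerfect F → ∀ f : F ⟶ Z,
    ∃ (H : DCoh.D X) (a : F ⟶ H) (b : H ⟶ Z), DCoh.IsPerfect H ∧ Φ H ∧ a ≫ b = f

theorem factorsΦ_mid {Φ : DCoh.D X → Prop} (hΦ : ThickClosed Φ) (S : Triangle (DCoh.D X))
    (hS : S ∈ distinguishedTriangles) (h₁ : FactorsΦ Φ S.obj₁) (h₃ : FactorsΦ Φ S.obj₃) :
    FactorsΦ Φ S.obj₂ := fun F hF f => by
  let u₁ := S.mor₁
  let u₂ := S.mor₂
  obtain ⟨G₃, a, b₃, hG₃, hΦ₃, hab⟩ := h₃ F hF (f ≫ u₂)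
  obtain ⟨F', n, d, hF'⟩ := distinguished_cocone_triangle₁ a
  obtain ⟨g, hg⟩ : ∃ g : F' ⟶ S.obj₁, n ≫ f = g ≫ u₁ :=
    Triangle.coyoneda_exact₂ _ hS (n ≫ f) ((Category.assoc n f u₂).trans
      ((congrArg (n ≫ ·) hab.symm).trans ((Category.assoc n a b₃).symm.trans
        ((congrArg (· ≫ b₃) (comp_distTriang_mor_zero₁₂ _ hF')).trans zero_comp))))
  obtain ⟨G₁, a', b₁, hG₁, hΦ₁, hab'⟩ := h₁ F' (Perfect.isPerfect₁ _ hF' hF hG₃) g
  obtain ⟨G, v, w, hG⟩ := distinguished_cocone_triangle₂ (d ≫ a'⟦(1 : ℤ)⟧')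
  obtain ⟨p, hp₁, hp₂⟩ : ∃ p : F ⟶ G, n ≫ p = a' ≫ v ∧ a ≫ 𝟙 G₃ = p ≫ w :=
    complete_distinguished_triangle_morphism₂ _ _ hF' hG a' (𝟙 G₃) (Category.id_comp _).symm
  obtain ⟨h, hh⟩ : ∃ h : G ⟶ S.obj₂, b₁ ≫ u₁ = v ≫ h := by
    have h0 : (d ≫ a'⟦(1 : ℤ)⟧') ≫ (b₁ ≫ u₁)⟦(1 : ℤ)⟧' = 0 := by
      rw [Category.assoc, ← Functor.map_comp, ← Category.assoc a', hab', ← hg, Functor.map_comp]
      exact (Category.assoc d _ _).symm.trans
        ((congrArg (· ≫ f⟦(1 : ℤ)⟧') (comp_distTriang_mor_zero₃₁ _ hF')).trans zero_comp)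
    obtain ⟨g', hg'⟩ := Triangle.yoneda_exact₃ _ (rot_of_distTriang _ hG) ((b₁ ≫ u₁)⟦(1 : ℤ)⟧') h0
    obtain ⟨h', rfl⟩ := (shiftFunctor (DCoh.D X) (1 : ℤ)).map_surjective g'
    refine ⟨-h', (shiftFunctor (DCoh.D X) (1 : ℤ)).map_injective (hg'.trans ?_)⟩
    change (-v⟦(1 : ℤ)⟧') ≫ h'⟦(1 : ℤ)⟧' = _
    exact ((Preadditive.neg_comp _ _).trans ((Preadditive.comp_neg _ _).symm.trans
      (congrArg (v⟦(1 : ℤ)⟧' ≫ ·) (Functor.map_neg _).symm))).trans (Functor.map_comp _ _ _).symm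
  obtain ⟨k, hk⟩ : ∃ k : G₃ ⟶ S.obj₂, f - p ≫ h = a ≫ k := by
    refine Triangle.yoneda_exact₂ _ hF' (f - p ≫ h) ?_
    change n ≫ (f - p ≫ h) = 0
    rw [Preadditive.comp_sub, sub_eq_zero, ← Category.assoc n p h, hp₁, hg, ← hab', Category.assoc,
      Category.assoc]
    exact congrArg (a' ≫ ·) hh
  refine ⟨G, p, h + w ≫ k, Perfect.isPerfect₂ _ hG hG₁ hG₃,
    hΦ.cone _ (inv_rot_of_distTriang _ hG) (hΦ.shift _ (-1) hΦ₃) hΦ₁, ?_⟩
  rw [Preadditive.comp_add, ← Category.assoc p w k, ← hp₂, Category.comp_id, ← hk, add_sub_cancel]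

theorem factorsΦ_shift {Φ : DCoh.D X → Prop} (hΦ : ThickClosed Φ) {Z : DCoh.D X} (m : ℤ)
    (h : FactorsΦ Φ (Z⟦m⟧)) : FactorsΦ Φ Z := fun F hF f => by
  obtain ⟨H, a, b, hH, hHΦ, hab⟩ := h (F⟦m⟧) (Perfect.isPerfect_shift hF m) (f⟦m⟧')
  let e := shiftFunctorCompIsoId (DCoh.D X) m (-m) (by omega)
  refine ⟨H⟦-m⟧, e.inv.app F ≫ a⟦-m⟧', b⟦-m⟧' ≫ e.hom.app Z, Perfect.isPerfect_shift hH _,
    hΦ.shift _ _ hHΦ, ?_⟩
  have hn : (f⟦m⟧')⟦-m⟧' ≫ e.hom.app Z = e.hom.app F ≫ f := e.hom.naturality f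
  rw [Category.assoc, ← Functor.map_comp_assoc, hab, hn, Iso.inv_hom_id_app_assoc]

variable [CompactSpace X] [QuasiSeparatedSpace X]

theorem factorsΦ_sum {Φ : DCoh.D X → Prop} (hΦ : ThickClosed Φ) {ι : Type u} (E : ι → DCoh.D X)
    (hE : ∀ i, DCoh.IsPerfect (E i) ∧ Φ (E i)) : FactorsΦ Φ (∐ E) := fun F hF f => by
  classical
  obtain ⟨S, t, rfl⟩ := (finSum_of_isPerfect hF E (fun i => isQCohD_of_isPerfect (hE i).1) _
    (coproductIsCoproduct E)).1 f
  have := HasBinaryBiproducts.of_hasBinaryProducts (C := DCoh.D X)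
  induction S using Finset.induction with
  | empty =>
    obtain ⟨Z, g, h, hZ⟩ := distinguished_cocone_triangle (𝟙 F)
    have hz : IsZero Z := (Triangle.isZero₃_iff_isIso₁ _ hZ).2 (inferInstanceAs (IsIso (𝟙 F)))
    exact ⟨Z, 0, 0, Perfect.isPerfect_zero hz, hΦ.zero _ hz, by simp⟩
  | insert j S hj ih =>
    obtain ⟨H, a, b, hH, hHΦ, hab⟩ := ih
    have hT := binaryBiproductTriangle_distinguished H (E j)
    refine ⟨H ⊞ E j, biprod.lift a (t j), biprod.desc b ((Cofan.mk (∐ E) (Sigma.ι E)).inj j),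
      Perfect.isPerfect₂ _ hT hH (hE j).1,
      hΦ.cone _ (inv_rot_of_distTriang _ hT) (hΦ.shift _ (-1) (hE j).2) hHΦ, ?_⟩
    rw [biprod.lift_desc, hab, Finset.sum_insert hj, add_comm]

/-- the perfect objects are classically generated by a generator -/
theorem perfect_induction (G : DCoh.D X) (hG : DCoh.IsPerfect G)
    (hgen : ∀ E : DCoh.D X, DCoh.IsQCohD E → (∀ (n : ℤ) (φ : G⟦n⟧ ⟶ E), φ = 0) → IsZero E)
    {Φ : DCoh.D X → Prop} (hΦ : ThickClosed Φ) (hΦG : Φ G) (P : DCoh.D X) (hP : DCoh.IsPerfect P) : Φ P := by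
  classical
  -- killing the maps from the shifts of `G`
  let Idx : DCoh.D X → Type u := fun Z => Σ m : ULift.{u} ℤ, Shrink.{u} (G⟦m.down⟧ ⟶ Z)
  let Fam : ∀ Z : DCoh.D X, Idx Z → DCoh.D X := fun _ q => G⟦q.1.down⟧
  have := QCohD.instHasCoproductsD (X := X)
  have step : ∀ Z : {Z : DCoh.D X // DCoh.IsQCohD Z}, ∃ (Z' : {Z : DCoh.D X // DCoh.IsQCohD Z})
      (k : ∐ Fam Z.1 ⟶ Z.1) (f : Z.1 ⟶ Z'.1) (d : Z'.1 ⟶ (∐ Fam Z.1)⟦(1 : ℤ)⟧),
      Triangle.mk k f d ∈ distinguishedTriangles ∧ ∀ (m : ℤ) (φ : G⟦m⟧ ⟶ Z.1), φ ≫ f = 0 := by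
    intro Z
    let k : ∐ Fam Z.1 ⟶ Z.1 := Sigma.desc fun q => (equivShrink _).symm q.2
    obtain ⟨Z', f, d, hT⟩ := distinguished_cocone_triangle k
    refine ⟨⟨Z', Groth.Agent.PCohD.isQCohD_obj₃ _ hT
      (Groth.Agent.S1040.result X (Fam Z.1) fun q => QC.isQCohD_shift (isQCohD_of_isPerfect hG) _) Z.2⟩,
      k, f, d, hT, fun m φ => ?_⟩
    have h1 : Sigma.ι (Fam Z.1) ⟨⟨m⟩, equivShrink _ φ⟩ ≫ k = φ := by simp [k, Fam]
    rw [← h1, Category.assoc]
    exact (congrArg (_ ≫ ·) (comp_distTriang_mor_zero₁₂ _ hT)).trans comp_zero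
  choose nx kk ff dd hTT hkill using step
  let Xs : ℕ → {Z : DCoh.D X // DCoh.IsQCohD Z} := fun n => Nat.rec ⟨P, isQCohD_of_isPerfect hP⟩ (fun _ Z => nx Z) n
  let f : ∀ n, (Xs n).1 ⟶ (Xs (n + 1)).1 := fun n => ff (Xs n)
  let c : ∀ n, P ⟶ (Xs n).1 := fun n => Nat.rec (𝟙 P) (fun n cn => cn ≫ f n) n
  -- some composite from `P` vanishes
  obtain ⟨N, hN⟩ : ∃ N, c N = 0 := by
    let J := ULift.{u} ℕ
    let K : J → DCoh.D X := fun j => (Xs j.down).1
    let sh : ∐ K ⟶ ∐ K := Sigma.desc fun j => f j.down ≫ Sigma.ι K ⟨j.down + 1⟩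
    let pr : ∀ j : J, ∐ K ⟶ K j := fun j =>
      Sigma.desc fun i => if h : i = j then eqToHom (congrArg K h) else 0
    have pr_self : ∀ j, Sigma.ι K j ≫ pr j = 𝟙 _ := fun j => by simp [pr]
    have pr_ne : ∀ i j, i ≠ j → Sigma.ι K i ≫ pr j = 0 := fun i j h => by simp [pr, h]
    have hsh0 : sh ≫ pr ⟨0⟩ = 0 := Sigma.hom_ext _ _ fun j => by
      simp only [sh, Sigma.ι_desc_assoc, Category.assoc, comp_zero]
      rw [pr_ne _ _ (fun h => by simpa using congrArg ULift.down h), comp_zero]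
    have hshs : ∀ m, sh ≫ pr ⟨m + 1⟩ = pr ⟨m⟩ ≫ f m := fun m => Sigma.hom_ext _ _ fun j => by
      simp only [sh, Sigma.ι_desc_assoc, Category.assoc]
      obtain ⟨n⟩ := j
      rcases eq_or_ne n m with rfl | hn
      · rw [pr_self, reassoc_of% (pr_self ⟨n⟩), Category.comp_id]
      · rw [pr_ne _ _ (fun h => hn (by simpa using congrArg ULift.down h)),
          reassoc_of% (pr_ne ⟨n⟩ ⟨m⟩ (fun h => hn (by simpa using congrArg ULift.down h))), comp_zero, zero_comp]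
    have hcoef : ∀ {C : DCoh.D X}, DCoh.IsPerfect C → ∀ α : C ⟶ ∐ K,
        ∃ S : Finset J, α = ∑ j ∈ S, (α ≫ pr j) ≫ Sigma.ι K j ∧ ∀ j, j ∉ S → α ≫ pr j = 0 := by
      intro C hC α
      obtain ⟨S, t, ht⟩ := (finSum_of_isPerfect hC K (fun j => (Xs j.down).2) _ (coproductIsCoproduct K)).1 α
      have ht' : ∀ j ∈ S, α ≫ pr j = t j := fun j hj => by
        rw [ht, Preadditive.sum_comp, Finset.sum_eq_single j
          (fun i _ hi => by simp [pr_ne i j hi]) (fun h' => absurd hj h')]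
        simp [pr_self]
      refine ⟨S, ?_, fun j hj => ?_⟩
      · exact ht.trans (Finset.sum_congr rfl fun j hj => by rw [ht' j hj]; rfl)
      · rw [ht, Preadditive.sum_comp]
        exact Finset.sum_eq_zero fun i hi => by simp [pr_ne i j (fun h => hj (h ▸ hi))]
    have hinj : ∀ {C : DCoh.D X}, DCoh.IsPerfect C → ∀ α : C ⟶ ∐ K, α ≫ (𝟙 _ - sh) = 0 → α = 0 := by
      intro C hC α hα
      rw [Preadditive.comp_sub, Category.comp_id, sub_eq_zero] at hα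
      have h0 : ∀ m, α ≫ pr ⟨m⟩ = 0 := fun m => by
        induction m with
        | zero => rw [hα, Category.assoc, hsh0, comp_zero]
        | succ m ih => rw [hα, Category.assoc, hshs, ← Category.assoc, ih, zero_comp]
      obtain ⟨S, hS, -⟩ := hcoef hC α
      rw [hS]
      exact Finset.sum_eq_zero fun j _ => by rw [h0 j.down, zero_comp]
    obtain ⟨L, q, e, hL⟩ := distinguished_cocone_triangle (𝟙 (∐ K) - sh)
    have hKq : DCoh.IsQCohD (∐ K) := Groth.Agent.S1040.result X K fun j => (Xs j.down).2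
    have hLz : IsZero L := hgen L (Groth.Agent.PCohD.isQCohD_obj₃ _ hL hKq hKq) fun n φ => by
      have hφe : φ ≫ e = 0 := by
        let F := shiftFunctor (DCoh.D X) (-1 : ℤ)
        let N := shiftFunctorCompIsoId (DCoh.D X) (1 : ℤ) (-1) (add_neg_cancel _)
        have h31 : e ≫ (shiftFunctor (DCoh.D X) (1 : ℤ)).map (𝟙 (∐ K) - sh) = 0 :=
          comp_distTriang_mor_zero₃₁ _ hL
        have hnat := N.hom.naturality (𝟙 (∐ K) - sh)
        simp only [Functor.comp_map, Functor.id_map] at hnat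
        have := hinj (Perfect.isPerfect_shift (Perfect.isPerfect_shift hG n) (-1))
          (F.map (φ ≫ e) ≫ N.hom.app (∐ K)) (by
            rw [Category.assoc, ← hnat, ← Category.assoc, ← F.map_comp, Category.assoc φ, h31,
              comp_zero, F.map_zero, zero_comp])
        rw [Preadditive.IsIso.comp_right_eq_zero] at this
        exact F.map_injective (this.trans (F.map_zero _ _).symm)
      obtain ⟨α, hα⟩ : ∃ α : G⟦n⟧ ⟶ ∐ K, φ = α ≫ q := Triangle.coyoneda_exact₃ _ hL φ hφe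
      obtain ⟨S, hS, -⟩ := hcoef (Perfect.isPerfect_shift hG n) α
      have hαs : α ≫ sh = 0 := by
        rw [hS, Preadditive.sum_comp]
        refine Finset.sum_eq_zero fun j _ => ?_
        rw [Category.assoc, Sigma.ι_desc, ← Category.assoc]
        exact (congrArg (· ≫ _) (hkill (Xs j.down) n (α ≫ pr j))).trans zero_comp
      have hα1 : α ≫ (𝟙 _ - sh) = α := by rw [Preadditive.comp_sub, hαs, Category.comp_id, sub_zero]
      rw [hα, ← hα1, Category.assoc]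
      exact (congrArg (α ≫ ·) (comp_distTriang_mor_zero₁₂ _ hL)).trans comp_zero
    obtain ⟨β, hβ⟩ : ∃ β : P ⟶ ∐ K, Sigma.ι K ⟨0⟩ = β ≫ (𝟙 _ - sh) :=
      Triangle.coyoneda_exact₂ _ hL (Sigma.ι K ⟨0⟩) (hLz.eq_of_tgt _ _)
    rw [Preadditive.comp_sub, Category.comp_id] at hβ
    have hc : ∀ m, β ≫ pr ⟨m⟩ = c m := fun m => by
      induction m with
      | zero =>
        have := congrArg (· ≫ pr ⟨0⟩) hβ
        simp only [Preadditive.sub_comp, Category.assoc, hsh0, comp_zero, sub_zero, pr_self] at this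
        exact this.symm
      | succ m ih =>
        have := congrArg (· ≫ pr ⟨m + 1⟩) hβ
        simp only [Preadditive.sub_comp, Category.assoc, hshs] at this
        rw [pr_ne _ _ (fun h => by simpa using congrArg ULift.down h)] at this
        rw [sub_eq_zero.1 this.symm, ← Category.assoc, ih]
    obtain ⟨S, -, hS⟩ := hcoef hP β
    obtain ⟨N, hN⟩ := Infinite.exists_notMem_finset (S.image ULift.down)
    exact ⟨N, (hc N).symm.trans (hS ⟨N⟩ fun h => hN (Finset.mem_image_of_mem ULift.down h))⟩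
  -- the fibres of the composites
  have hfac : ∀ n, ∃ (Fn : DCoh.D X) (i : Fn ⟶ P) (d : (Xs n).1 ⟶ Fn⟦(1 : ℤ)⟧),
      Triangle.mk i (c n) d ∈ distinguishedTriangles ∧ FactorsΦ Φ Fn := by
    intro n
    induction n with
    | zero =>
      obtain ⟨F₀, i, d, hT⟩ := distinguished_cocone_triangle₁ (c 0)
      have : IsZero F₀ := (Triangle.isZero₁_iff_isIso₂ _ hT).2 (inferInstanceAs (IsIso (𝟙 P)))
      exact ⟨F₀, i, d, hT, fun F hF φ => ⟨F₀, φ, 𝟙 _, Perfect.isPerfect_zero this, hΦ.zero _ this, Category.comp_id _⟩⟩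
    | succ n ih =>
      obtain ⟨Fn, i, d, hT, hFn⟩ := ih
      obtain ⟨F', i', d', hT'⟩ := distinguished_cocone_triangle₁ (c (n + 1))
      let O := Triangulated.someOctahedron (rfl : c n ≫ f n = c (n + 1)) (rot_of_distTriang _ hT)
        (rot_of_distTriang _ (hTT (Xs n))) (rot_of_distTriang _ hT')
      refine ⟨F', i', d', hT', factorsΦ_shift hΦ 1 (factorsΦ_mid hΦ _ O.mem ?_ ?_)⟩
      · refine factorsΦ_shift hΦ (-1) fun F hF φ => ?_
        let e := shiftFunctorCompIsoId (DCoh.D X) (1 : ℤ) (-1) (add_neg_cancel _)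
        obtain ⟨H, a, b, hH, hHΦ, hab⟩ := hFn F hF (φ ≫ e.hom.app Fn)
        refine ⟨H, a, b ≫ e.inv.app Fn, hH, hHΦ, ?_⟩
        exact (Category.assoc a b _).symm.trans ((congrArg (· ≫ e.inv.app _) hab).trans
          ((Category.assoc φ _ _).trans ((congrArg (φ ≫ ·) (e.hom_inv_id_app _)).trans (Category.comp_id φ))))
      · refine factorsΦ_shift hΦ (-1) fun F hF φ => ?_
        let e := shiftFunctorCompIsoId (DCoh.D X) (1 : ℤ) (-1) (add_neg_cancel _)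
        obtain ⟨H, a, b, hH, hHΦ, hab⟩ := factorsΦ_sum hΦ (Fam (Xs n).1)
          (fun q => ⟨Perfect.isPerfect_shift hG _, hΦ.shift _ _ hΦG⟩) F hF (φ ≫ e.hom.app _)
        refine ⟨H, a, b ≫ e.inv.app _, hH, hHΦ, ?_⟩
        exact (Category.assoc a b _).symm.trans ((congrArg (· ≫ e.inv.app _) hab).trans
          ((Category.assoc φ _ _).trans ((congrArg (φ ≫ ·) (e.hom_inv_id_app _)).trans (Category.comp_id φ))))
  obtain ⟨Fn, i, d, hT, hFn⟩ := hfac N
  obtain ⟨s, hs⟩ := Triangle.coyoneda_exact₂ _ hT (𝟙 P) ((Category.id_comp _).trans hN)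
  obtain ⟨H, a, b, -, hH, hab⟩ := hFn P hP s
  exact hΦ.retract a (b ≫ i) (by rw [← Category.assoc, hab]; exact hs.symm) hH

end Groth.Agent.PerfExt
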