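import Groth.Agent.CohDerLib.Kosz.DerivedA
import Groth.Agent.DRing.Devissage
import Groth.Agent.DRing.Perfect
import Groth.Prelude.Def_DRing2

/-!
# Killing a map from a perfect complex into a torsion object by a perfect modification
-/

set_option autoImplicit false

universe u

open CategoryTheory CategoryTheory.Limits Pretriangulated DerivedCategory
open Groth.Agent.KFlat.TruncHom Groth.Agent.CohDerLib.Kosz

attribute [local instance] HasDerivedCategory.standard

namespace Groth.Agent.PerfExt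

variable {A : Type u} [CommRing A]

local notation "H" => homologyFunctor (ModuleCat A)

/-- maps out of `K` into torsion objects are torsion -/
def TorsHom (g : A) (K : DerivedCategory (ModuleCat.{u} A)) : Prop :=
  ∀ C, HTors g C → ∀ φ : K ⟶ C, ∃ k : ℕ, g ^ k • φ = 0

theorem torsHom_of_iso {g : A} {K L : DerivedCategory (ModuleCat.{u} A)} (e : K ≅ L) (h : TorsHom g K) :
    TorsHom g L := fun C hC φ => by
  obtain ⟨k, hk⟩ := h C hC (e.hom ≫ φ)
  refine ⟨k, (cancel_epi e.hom).1 ?_⟩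
  rw [Linear.comp_smul, hk, comp_zero]

theorem torsHom_isZero {g : A} (K : DerivedCategory (ModuleCat.{u} A)) (h : IsZero K) : TorsHom g K :=
  fun _ _ _ => ⟨0, h.eq_of_src _ _⟩

theorem torsHom_mid {g : A} (T : Triangle (DerivedCategory (ModuleCat.{u} A))) (hT : T ∈ distinguishedTriangles)
    (h₁ : TorsHom g T.obj₁) (h₃ : TorsHom g T.obj₃) : TorsHom g T.obj₂ := fun C hC φ => by
  obtain ⟨k, hk⟩ := h₁ C hC (T.mor₁ ≫ φ)
  obtain ⟨ψ, hψ⟩ := Triangle.yoneda_exact₂ T hT (g ^ k • φ) (by rw [Linear.comp_smul, hk])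
  obtain ⟨j, hj⟩ := h₃ C hC ψ
  refine ⟨j + k, ?_⟩
  rw [pow_add, mul_smul, hψ, ← Linear.comp_smul, hj, comp_zero]

theorem torsHom_single {g : A} (m : ℤ) (M : ModuleCat.{u} A) [Module.Finite A M] [Module.Projective A M] :
    TorsHom g ((singleFunctor (ModuleCat.{u} A) m).obj M) := fun C hC φ => by
  classical
  have : Projective M := (IsProjective.iff_projective (R := A) (P := M)).1 inferInstance
  obtain ⟨s, hs⟩ := (Module.finite_def (R := A) (M := M)).1 inferInstance
  let f := (Φ M m C φ).hom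
  choose k hk using fun x : M => hC m (f x)
  refine ⟨s.sup k, (Groth.Agent.KFlat.Generator.Φ_bijective_of_projective M m C).1 ?_⟩
  rw [map_zero]
  refine ModuleCat.hom_ext (LinearMap.ext_on hs fun x hx => ?_)
  have h1 : Φ M m C (g ^ s.sup k • φ) = g ^ s.sup k • Φ M m C φ := by
    simp only [Φ_apply, homology_smul, Linear.comp_smul]
  rw [h1]
  change g ^ s.sup k • f x = 0
  obtain ⟨d, hd⟩ := Nat.le.dest (Finset.le_sup (f := k) hx)
  rw [← hd, add_comm, pow_add, mul_smul, hk x, smul_zero]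

theorem torsHom_perfect {g : A} (M : DerivedCategory (ModuleCat.{u} A)) (hM : DRing.IsPerfect A M) : TorsHom g M := by
  obtain ⟨E, a, b, hv, hp, ⟨e⟩⟩ := hM
  refine torsHom_of_iso e ?_
  refine Groth.Agent.DRing.Devissage.of_terms (TorsHom g) (fun e h => torsHom_of_iso e h)
    torsHom_isZero torsHom_mid E hv fun i => ?_
  have := (hp i).1
  have := (hp i).2
  exact torsHom_of_iso
    (((SingleFunctors.evaluation _ _ i).mapIso (singleFunctorsPostcompQIso (ModuleCat.{u} A))).app (E.X i))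
    (torsHom_single i (E.X i))

theorem hTors_cone (T : Triangle (DerivedCategory (ModuleCat.{u} A))) (hT : T ∈ distinguishedTriangles) (g : A)
    (h₁ : HTors g T.obj₁) (h₂ : HTors g T.obj₂) : HTors g T.obj₃ := by
  intro m x
  obtain ⟨k, hk⟩ := h₁ (m + 1) ((HomologySequence.δ T m (m + 1) rfl).hom x)
  obtain ⟨z, hz⟩ := (ShortComplex.moduleCat_exact_iff _).1 (HomologySequence.exact₃ T hT m (m + 1) rfl)
    (g ^ k • x) (((HomologySequence.δ T m (m + 1) rfl).hom.map_smul _ _).trans hk)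
  obtain ⟨j, hj⟩ := h₂ m z
  refine ⟨j + k, ?_⟩
  rw [pow_add, mul_smul, ← hz]
  exact (((H m).map T.mor₂).hom.map_smul _ _).symm.trans ((congrArg _ hj).trans (map_zero _))

theorem hTors_cone_pow {Z Z' : DerivedCategory (ModuleCat.{u} A)} (g : A) (k : ℕ) (a : Z ⟶ Z') (b : Z' ⟶ Z⟦(1 : ℤ)⟧)
    (hT : Triangle.mk (g ^ k • 𝟙 Z) a b ∈ distinguishedTriangles) : HTors g Z' := by
  intro m x
  let T := Triangle.mk (g ^ k • 𝟙 Z) a b
  let δ := HomologySequence.δ T m (m + 1) rfl
  have h1 : δ ≫ (g ^ k • 𝟙 _) = 0 :=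
    (congrArg (δ ≫ ·) (homology_smul_id Z (m + 1) (g ^ k)).symm).trans (HomologySequence.δ_comp T hT m (m + 1) rfl)
  obtain ⟨z, hz⟩ := (ShortComplex.moduleCat_exact_iff _).1 (HomologySequence.exact₃ T hT m (m + 1) rfl)
    (g ^ k • x) ((δ.hom.map_smul _ _).trans (congrArg (fun φ => φ.hom x) h1))
  have h2 : (g ^ k • 𝟙 ((H m).obj Z)) ≫ (H m).map a = 0 := by
    refine (congrArg (· ≫ (H m).map a) (homology_smul_id Z m (g ^ k)).symm).trans ?_
    exact ((H m).map_comp T.mor₁ T.mor₂).symm.trans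
      ((congrArg _ (comp_distTriang_mor_zero₁₂ T hT)).trans (Functor.map_zero _ _ _))
  refine ⟨k + k, ?_⟩
  rw [pow_add, mul_smul, ← hz]
  exact (((H m).map a).hom.map_smul _ _).symm.trans (congrArg (fun φ => φ.hom z) h2)

/-- a map from a perfect complex into a torsion object factors through a perfect torsion object -/
theorem exists_factor (fs : List A) (M C : DerivedCategory (ModuleCat.{u} A)) (hM : DRing.IsPerfect A M)
    (hC : ∀ g ∈ fs, HTors g C) (φ : M ⟶ C) :
    ∃ (Z : DerivedCategory (ModuleCat.{u} A)) (q : M ⟶ Z) (ψ : Z ⟶ C),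
      DRing.IsPerfect A Z ∧ q ≫ ψ = φ ∧ ∀ g ∈ fs, HTors g Z := by
  induction fs with
  | nil => exact ⟨M, 𝟙 M, φ, hM, Category.id_comp φ, by simp⟩
  | cons g l ih =>
    obtain ⟨Z, q, ψ, hZ, hq, hl⟩ := ih fun x hx => hC x (List.mem_cons_of_mem _ hx)
    obtain ⟨k, hk⟩ := torsHom_perfect Z hZ C (hC g List.mem_cons_self) ψ
    obtain ⟨Z', a, b, hT⟩ := distinguished_cocone_triangle (g ^ k • 𝟙 Z)
    obtain ⟨ψ', hψ'⟩ := Triangle.yoneda_exact₂ _ hT ψ
      ((Linear.smul_comp _ _ _ _ _ _).trans ((congrArg _ (Category.id_comp ψ)).trans hk))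
    refine ⟨Z', q ≫ a, ψ', Groth.Agent.DRing.Perfect.perfect_two_of_three hT |>.1 hZ hZ, ?_, ?_⟩
    · exact (Category.assoc q a ψ').trans ((congrArg (q ≫ ·) hψ'.symm).trans hq)
    · intro x hx
      rcases List.mem_cons.1 hx with rfl | hx
      · exact hTors_cone_pow x k a b hT
      · exact hTors_cone _ hT x (hl x hx) (hl x hx)

/-- a map from a perfect complex into a torsion object dies after a perfect modification -/
theorem exists_kill (fs : List A) (M C : DerivedCategory (ModuleCat.{u} A)) (hM : DRing.IsPerfect A M)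
    (hC : ∀ g ∈ fs, HTors g C) (φ : M ⟶ C) :
    ∃ (M₁ Z : DerivedCategory (ModuleCat.{u} A)) (ν : M₁ ⟶ M) (q : M ⟶ Z) (b : Z ⟶ M₁⟦(1 : ℤ)⟧),
      Triangle.mk ν q b ∈ distinguishedTriangles ∧
      DRing.IsPerfect A M₁ ∧ ν ≫ φ = 0 ∧ ∀ g ∈ fs, HTors g Z := by
  obtain ⟨Z, q, ψ, hZ, hq, hl⟩ := exists_factor fs M C hM hC φ
  obtain ⟨M₁, ν, b, hT⟩ := distinguished_cocone_triangle₁ q
  refine ⟨M₁, Z, ν, q, b, hT, Groth.Agent.DRing.Perfect.perfect_two_of_three hT |>.2.2 hM hZ, ?_, hl⟩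
  rw [← hq, ← Category.assoc]
  exact (congrArg (· ≫ ψ) (comp_distTriang_mor_zero₁₂ _ hT)).trans zero_comp

end Groth.Agent.PerfExt
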