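import Groth.Agent.PerfExt.Gen
import Groth.Agent.PerfExt.Classical
import Groth.Agent.S0999
import Groth.Agent.S11115

/-!
# Boundedness detected by maps from perfect objects
-/

set_option autoImplicit false

universe u

open CategoryTheory CategoryTheory.Limits AlgebraicGeometry Pretriangulated DerivedCategory Filter
open Groth.Agent.PerfTri Groth.Agent.CohDerLib

attribute [local instance] HasDerivedCategory.standard
attribute [-instance] CategoryTheory.ReflQuiver.toQuiver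

noncomputable section

namespace Groth.Agent.PerfExt

variable {X : Scheme.{u}}

/-- no maps from one shift -/
def OrthAt (n : ℤ) (P E : DCoh.D X) : Prop := ∀ φ : P⟦n⟧ ⟶ E, φ = 0

theorem orthAt_adj {Y : Scheme.{u}} {L : DCoh.D X ⥤ DCoh.D Y} {R : DCoh.D Y ⥤ DCoh.D X} (adj : L ⊣ R)
    [L.CommShift ℤ] {P : DCoh.D X} {E : DCoh.D Y} (n : ℤ) : OrthAt n (L.obj P) E ↔ OrthAt n P (R.obj E) := by
  constructor
  · intro h φ
    refine (adj.homEquiv _ _).symm.injective ((cancel_epi ((L.commShiftIso n).inv.app P)).1 ?_)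
    exact (h _).trans (h _).symm
  · intro h φ
    refine (cancel_epi ((L.commShiftIso n).hom.app P)).1 ((adj.homEquiv _ _).injective ?_)
    exact (h _).trans (h _).symm

theorem orthAt_of_retract {P Q E : DCoh.D X} (n : ℤ) (i : P ⟶ Q) (r : Q ⟶ P) (h : i ≫ r = 𝟙 P)
    (hQ : OrthAt n Q E) : OrthAt n P E := fun φ => by
  have h1 : φ = (i⟦n⟧') ≫ (r⟦n⟧') ≫ φ := by
    rw [← Category.assoc, ← Functor.map_comp, h]; simp
  rw [h1, hQ ((r⟦n⟧') ≫ φ), comp_zero]

theorem orthAt_of_iso {P Q E E' : DCoh.D X} (n : ℤ) (e : P ≅ Q) (e' : E ≅ E') (h : OrthAt n P E) :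
    OrthAt n Q E' := fun φ => by
  refine (cancel_mono e'.inv).1 ((cancel_epi (e.hom⟦n⟧')).1 ?_)
  rw [zero_comp, comp_zero]
  exact h _

theorem orthAt_mid (n : ℤ) (P : DCoh.D X) (T : Triangle (DCoh.D X)) (hT : T ∈ distinguishedTriangles)
    (h₁ : OrthAt n P T.obj₁) (h₃ : OrthAt n P T.obj₃) : OrthAt n P T.obj₂ := fun φ => by
  obtain ⟨ξ, hξ⟩ := Triangle.coyoneda_exact₂ _ hT φ (h₃ _)
  rw [hξ, h₁ ξ, zero_comp]

theorem orthAt_third (n : ℤ) (P : DCoh.D X) (T : Triangle (DCoh.D X)) (hT : T ∈ distinguishedTriangles)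
    (h₁ : OrthAt (n - 1) P T.obj₁) (h₂ : OrthAt n P T.obj₂) : OrthAt n P T.obj₃ := fun φ => by
  have h0 : φ ≫ T.mor₃ = 0 := by
    obtain ⟨ψ, hψ⟩ := (shiftFunctor (DCoh.D X) (1 : ℤ)).map_surjective
      (((shiftFunctorAdd' (DCoh.D X) (n - 1) 1 n (by omega)).inv.app P) ≫ φ ≫ T.mor₃)
    rw [h₁ ψ, Functor.map_zero] at hψ
    exact (cancel_epi ((shiftFunctorAdd' (DCoh.D X) (n - 1) 1 n (by omega)).inv.app P)).1
      (hψ.symm.trans comp_zero.symm)
  obtain ⟨ξ, hξ⟩ := Triangle.coyoneda_exact₃ _ hT φ h0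
  rw [hξ, h₂ ξ, zero_comp]

/-- eventually no maps -/
def Van (l : Filter ℤ) (P E : DCoh.D X) : Prop := ∀ᶠ i in l, OrthAt (-i) P E

/-- eventually no cohomology -/
def Vanish (l : Filter ℤ) (E : DCoh.D X) : Prop := ∀ᶠ i in l, IsZero (DCoh.HD E i)

variable (l : Filter ℤ) (htr : ∀ k : ℤ, Tendsto (fun i => i + k) l l)

include htr in
theorem thickClosed_van (E : DCoh.D X) : ThickClosed (fun P => Van l P E) where
  zero K hK := .of_forall fun i φ => ((shiftFunctor _ _).map_isZero hK).eq_of_src _ _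
  iso e h := h.mono fun i hi => orthAt_of_iso _ e (Iso.refl E) hi
  retract i r hir h := h.mono fun j hj => orthAt_of_retract _ i r hir hj
  shift K n h := ((htr (-n)).eventually h).mono fun i hi φ => by
    refine (cancel_epi ((shiftFunctorAdd' (DCoh.D X) n (-i) (-(i + -n)) (by omega)).hom.app K)).1 ?_
    rw [comp_zero]
    exact hi _
  cone T hT h₁ h₂ := (((htr (-1)).eventually h₁).and h₂).mono fun i hi φ => by
    obtain ⟨ξ, hξ⟩ := Triangle.yoneda_exact₃ _ (Triangle.shift_distinguished _ hT (-i)) φ (hi.2 _)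
    rw [hξ]
    refine (congrArg (_ ≫ ·) ?_).trans comp_zero
    exact (cancel_epi ((shiftFunctorAdd' (DCoh.D X) (-i) 1 (-(i + -1)) (by omega)).hom.app T.obj₁)).1
      ((hi.1 _).trans comp_zero.symm)

include htr in
theorem van_of_vanish [CompactSpace X] [QuasiSeparatedSpace X] {P E : DCoh.D X} (hP : DCoh.IsPerfect P)
    (hE : DCoh.IsQCohD E) (h : Vanish l E) : Van l P E := by
  obtain ⟨⟨a, b, -, hvan⟩, -⟩ := Groth.Agent.S1011.result X P hP
  have h' : ∀ᶠ i in l, ∀ k ∈ Finset.Icc a b, IsZero (DCoh.HD E (i + k)) :=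
    (Filter.eventually_all_finset _).2 fun k _ => (htr k).eventually h
  refine h'.mono fun i hi φ => ?_
  have h0 : ∀ ψ : P ⟶ E⟦i⟧, ψ = 0 := hvan _ (QC.isQCohD_shift hE i) fun k hk hk' =>
    (hi k (Finset.mem_Icc.2 ⟨hk, hk'⟩)).of_iso
      (((DerivedCategory.homologyFunctor X.Modules 0).shiftIso i k (i + k) rfl).app E)
  apply (shiftFunctor (DCoh.D X) i).map_injective
  rw [Functor.map_zero]
  refine (cancel_epi ((shiftFunctorCompIsoId (DCoh.D X) (-i) i (by omega)).inv.app P)).1 ?_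
  rw [comp_zero]
  exact h0 _

theorem isZero_HD_of_cover (U V : X.Opens) (hUV : U ⊔ V = ⊤) (E : DCoh.D X) (i : ℤ)
    (hU : IsZero ((DCoh.restrictD U.ι ⋙ homologyFunctor _ i).obj E))
    (hV : IsZero ((DCoh.restrictD V.ι ⋙ homologyFunctor _ i).obj E)) : IsZero (DCoh.HD E i) := by
  have : IsIso (0 : DCoh.HD E i ⟶ DCoh.HD E i) := by
    refine QC.isIso_of_restrict _ (fun b : Bool => if b then U else V) ?_ fun b => ?_
    · rw [← hUV]
      apply le_antisymm
      · exact iSup_le fun b => by cases b <;> simp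
      · exact sup_le (le_iSup_of_le true le_rfl) (le_iSup_of_le false le_rfl)
    cases b with
    | true =>
      exact isIso_of_isInitial ((hU.of_iso (Kosz.homologyRestrictIso U E i).symm).isInitial)
        ((hU.of_iso (Kosz.homologyRestrictIso U E i).symm).isInitial) _
    | false =>
      exact isIso_of_isInitial ((hV.of_iso (Kosz.homologyRestrictIso V E i).symm).isInitial)
        ((hV.of_iso (Kosz.homologyRestrictIso V E i).symm).isInitial) _
  rw [IsZero.iff_id_eq_zero]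
  exact (cancel_epi (0 : DCoh.HD E i ⟶ DCoh.HD E i)).1 (by simp)

variable (hpush : ∀ {Y : Scheme.{u}} (U : Y.Opens), CompactSpace Y → QuasiSeparatedSpace Y →
  IsCompact (U : Set Y) → ∀ [DCoh.HasRpush U.ι] (F : DCoh.D (U : Scheme.{u})), DCoh.IsQCohD F →
  Vanish l F → Vanish l ((DCoh.Rpush U.ι).obj F))

include htr hpush in
/-- one step: `X = U ∪ V` with `V` affine -/
theorem vanish_step [CompactSpace X] [QuasiSeparatedSpace X] (U V : X.Opens) (hUV : U ⊔ V = ⊤)
    [IsAffine (V : Scheme.{u})] (hU : IsCompact (U : Set X))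
    (ih : ∀ E : DCoh.D (U : Scheme.{u}), DCoh.IsQCohD E → (∀ P, DCoh.IsPerfect P → Van l P E) → Vanish l E)
    (E : DCoh.D X) (hE : DCoh.IsQCohD E) (h : ∀ P, DCoh.IsPerfect P → Van l P E) : Vanish l E := by
  have : CompactSpace (U : Scheme.{u}) := isCompact_iff_compactSpace.1 hU
  have : QuasiCompact U.ι := AlgebraicGeometry.quasiCompact_of_compactSpace U.ι
  have : QuasiCompact V.ι := AlgebraicGeometry.quasiCompact_of_compactSpace V.ι
  have := KFlat.RPush.hasRpush U.ι
  have := KFlat.RPush.hasRpush V.ι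
  obtain ⟨adj⟩ := exists_adj (X := X) U.ι
  obtain ⟨C, c, d, hC⟩ := distinguished_cocone_triangle (adj.unit.app E)
  have hNq : DCoh.IsQCohD ((DCoh.Rpush U.ι).obj ((DCoh.restrictD U.ι).obj E)) :=
    QC.isQCohD_Rpush U.ι _ (isQCohD_restrict U.ι hE)
  have hCq : DCoh.IsQCohD C := Groth.Agent.PCohD.isQCohD_obj₃ _ hC hE hNq
  have hCU : IsZero ((DCoh.restrictD U.ι).obj C) :=
    (Triangle.isZero₃_iff_isIso₁ _ ((DCoh.restrictD U.ι).map_distinguished _ hC)).2 (Kosz.isIso_restrict_unit U adj E)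
  -- the Koszul object
  let O : (V : Scheme.{u}).Opens := V.ι ⁻¹ᵁ U
  obtain ⟨fs, hfs⟩ := exists_isZero_iff (V : Scheme.{u}) O (QuasiCompact.isCompact_preimage (f := V.ι) _ U.isOpen hU)
  let K := (T (V : Scheme.{u})).obj (Kosz.KD fs)
  have hKO : IsZero ((DCoh.restrictD O.ι).obj K) := (hfs _).2 fun g hg => Kosz.hTors_koszul fs g hg
  let Q := (CxOX.extZeroD V.ι).obj K
  let T₀ : Set X := (U : Set X)ᶜ
  have hT₀V : T₀ ⊆ (V : Set X) := fun x hx => by
    have h1 : x ∈ U ⊔ V := by rw [hUV]; trivial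
    exact h1.resolve_left hx
  let T' : Set (V : Scheme.{u}) := (O : Set (V : Scheme.{u}))ᶜ
  have himg : (fun x : (V : Scheme.{u}) => V.ι.base x) '' T' = T₀ := by
    ext x
    constructor
    · rintro ⟨y, hy, rfl⟩; exact hy
    · intro hx; exact ⟨⟨x, hT₀V hx⟩, hx, rfl⟩
  have hK : ∀ i, CohB1.support (DCoh.HD K i) ⊆ T' := fun i => support_subset_of_isZero_restrict O hKO i
  obtain ⟨eQ⟩ := (Groth.Agent.S6528.result V T₀ U.isOpen.isClosed_compl hT₀V).2 K fun i => by
    rw [← himg]; exact Set.image_mono (hK i)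
  have hQp : DCoh.IsPerfect Q := Perfect.isPerfect_of_iso eQ.symm
    (Groth.Agent.S6519.result V K ((isPerfect_T_iff _ _).2 (perfect_KD fs)) T' O.isOpen.isClosed_compl (by
      rw [himg]; exact U.isOpen.isClosed_compl) hK)
  have hQU : IsZero ((DCoh.restrictD U.ι).obj Q) := by
    have := KFlat.RPush.hasRpush (V.ι ∣_ U)
    refine IsZero.of_iso ?_ ((DCoh.restrictD U.ι).mapIso eQ)
    exact ((DCoh.Rpush (V.ι ∣_ U)).map_isZero hKO).of_iso ((KFlat.RPushBase.restrictRpushIso V.ι U).app K)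
  have hQC : Van l Q C := by
    refine ((htr 1).eventually (h Q hQp)).mono fun i hi => orthAt_third (-i) Q _ hC ?_ ?_
    · have h0 : -i - 1 = -(i + 1) := by omega
      rw [h0]; exact hi
    · exact (orthAt_adj adj _).1 fun φ => ((shiftFunctor _ _).map_isZero hQU).eq_of_src _ _
  obtain ⟨M, ⟨eM⟩⟩ := exists_iso_T (V : Scheme.{u}) (isQCohD_restrict V.ι hCq)
  have htors : ∀ g ∈ fs, Kosz.HTors g M := (hfs M).1
    (((isZero_restrict_of_range U (O.ι ≫ V.ι) (by rintro _ ⟨z, rfl⟩; exact z.2) hCU).of_iso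
      ((restrictDComp O.ι V.ι _ rfl).app C)).of_iso ((DCoh.restrictD O.ι).mapIso eM))
  have hC0 : Vanish l C := by
    refine hQC.mono fun i hi => isZero_HD_of_cover U V hUV C i ((homologyFunctor _ i).map_isZero hCU) ?_
    have hM : IsZero ((homologyFunctor (ModuleCat.{u} Γ((V : Scheme.{u}), ⊤)) i).obj M) := by
      have := Kosz.isZero_homology_of_hom fs M htors (-i) fun φ => (T (V : Scheme.{u})).map_injective (by
        rw [Functor.map_zero]
        refine (cancel_epi ((((T (V : Scheme.{u})).commShiftIso (-i)).app (Kosz.KD fs)).inv)).1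
          ((cancel_mono eM.hom).1 ?_)
        rw [comp_zero, zero_comp]
        exact (orthAt_adj (KFlat.ExtZero.extZeroDAdj V) (-i)).1 hi _)
      rwa [neg_neg] at this
    refine IsZero.of_iso ?_ ((homologyFunctor _ i).mapIso eM.symm)
    exact ((Scheme.Modules.restrictFunctor (V : Scheme.{u}).isoSpec.hom).map_isZero
      ((tilde.functor (CommRingCat.of Γ((V : Scheme.{u}), ⊤))).map_isZero hM)).of_iso
      ((KFlat.MapHomology.iso (Scheme.Modules.restrictFunctor (V : Scheme.{u}).isoSpec.hom) i).app _ ≪≫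
        (Scheme.Modules.restrictFunctor (V : Scheme.{u}).isoSpec.hom).mapIso
          ((KFlat.MapHomology.iso (tilde.functor (CommRingCat.of Γ((V : Scheme.{u}), ⊤))) i).app _))
  have hEU : Vanish l ((DCoh.restrictD U.ι).obj E) := by
    refine ih _ (isQCohD_restrict U.ι hE) fun P hP => ?_
    have := HasBinaryBiproducts.of_hasBinaryProducts (C := DCoh.D (U : Scheme.{u}))
    obtain ⟨R, hR, -, ⟨eR⟩⟩ := exists_extension U V ⊥ hUV hU (by simp) P hP
      (isZero_restrict_of_support _ fun k x _ hx => hx)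
    refine ((van_of_vanish l htr hR hCq hC0).and (h R hR)).mono fun i hi => ?_
    refine orthAt_of_retract _ (biprod.inl (Y := P⟦(1 : ℤ)⟧)) biprod.fst biprod.inl_fst ?_
    exact orthAt_of_iso _ eR (Iso.refl _) ((orthAt_adj adj _).2 (orthAt_mid _ R _ hC hi.2 hi.1))
  have hN : Vanish l ((DCoh.Rpush U.ι).obj ((DCoh.restrictD U.ι).obj E)) :=
    hpush U ‹_› ‹_› hU _ (isQCohD_restrict U.ι hE) hEU
  refine (((htr (-1)).eventually hC0).and hN).mono fun i hi => ?_
  exact (DerivedCategory.HomologySequence.exact₁ _ hC (i + -1) i (by omega)).isZero_of_both_zeros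
    (hi.1.eq_of_src _ _) (hi.2.eq_of_tgt _ _)

include htr hpush in
/-- vanishing of cohomology is detected by the perfect objects -/
theorem vanish_of_van (X : Scheme.{u}) [CompactSpace X] [QuasiSeparatedSpace X] (E : DCoh.D X)
    (hE : DCoh.IsQCohD E) (h : ∀ P, DCoh.IsPerfect P → Van l P E) : Vanish l E := by
  suffices h : ∀ S : X.Opens, IsCompact (S : Set X) →
      ∀ (Y : Scheme.{u}) (j : Y ⟶ X) [IsOpenImmersion j], Set.range j = (S : Set X) →
      ∀ E : DCoh.D Y, DCoh.IsQCohD E → (∀ P, DCoh.IsPerfect P → Van l P E) → Vanish l E from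
    h ⊤ isCompact_univ X (𝟙 X) (by simp) E hE ‹_›
  intro S hS
  refine compact_open_induction_on (P := fun S : X.Opens =>
    ∀ (Y : Scheme.{u}) (j : Y ⟶ X) [IsOpenImmersion j], Set.range j = (S : Set X) →
      ∀ E : DCoh.D Y, DCoh.IsQCohD E → (∀ P, DCoh.IsPerfect P → Van l P E) → Vanish l E) S hS ?_ ?_
  · intro Y j _ hj E _ _
    have : IsEmpty Y := ⟨fun y => by
      have : j y ∈ Set.range j := ⟨y, rfl⟩
      rw [hj] at this
      exact this⟩
    have hb : IsZero ((DCoh.restrictD (⊥ : Y.Opens).ι).obj E) := isZero_restrict_of_support ⊥ fun i x _ => isEmptyElim x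
    have hz : IsZero E := isZero_of_cover ⊥ ⊥ (top_le_iff.1 fun x _ => isEmptyElim x) hb hb
    exact .of_forall fun i => (homologyFunctor _ i).map_isZero hz
  · intro S₀ hS₀ V₀ ih Y j _ hj E hE h
    have hYc : CompactSpace Y := by
      refine ⟨j.isOpenEmbedding.isInducing.isCompact_iff.2 ?_⟩
      rw [Set.image_univ, hj]
      exact hS₀.union V₀.2.isCompact
    have hYq : QuasiSeparatedSpace Y := j.isOpenEmbedding.quasiSeparatedSpace
    let U : Y.Opens := j ⁻¹ᵁ S₀
    let V : Y.Opens := j ⁻¹ᵁ V₀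
    have hsub : ∀ Z : X.Opens, (Z : Set X) ⊆ (S₀ ⊔ V₀ : X.Opens) → (Z : Set X) ⊆ Set.range j := fun Z hZ => hZ.trans hj.ge
    have hU : IsCompact (U : Set Y) := j.isOpenEmbedding.isInducing.isCompact_preimage' hS₀ (hsub S₀ (fun x hx => Or.inl hx))
    have hUV : U ⊔ V = ⊤ := top_le_iff.1 fun y _ => by
      have h1 : j y ∈ Set.range j := ⟨y, rfl⟩
      rw [hj] at h1
      exact h1
    have hV : IsAffineOpen V := V₀.2.preimage_of_isOpenImmersion j (hsub V₀ (fun x hx => Or.inr hx))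
    have : IsAffine (V : Scheme.{u}) := hV
    have hUr : Set.range (U.ι ≫ j) = (S₀ : Set X) := by
      ext x
      constructor
      · rintro ⟨z, rfl⟩; exact z.2
      · intro hx
        obtain ⟨y, rfl⟩ := hsub S₀ (fun x hx => Or.inl hx) hx
        exact ⟨⟨y, hx⟩, rfl⟩
    exact vanish_step l htr hpush U V hUV hU (ih (U : Scheme.{u}) (U.ι ≫ j) hUr) E hE h

theorem vanish_atTop_iff (E : DCoh.D X) : Vanish atTop E ↔ ∃ b : ℤ, E.IsLE b := by
  rw [Vanish, eventually_atTop]
  constructor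
  · rintro ⟨N, hN⟩
    exact ⟨N, (isLE_iff E N).2 fun i hi => hN i hi.le⟩
  · rintro ⟨b, hb⟩
    exact ⟨b + 1, fun i hi => isZero_of_isLE E b i (by omega)⟩

theorem vanish_atBot_iff (E : DCoh.D X) : Vanish atBot E ↔ ∃ a : ℤ, E.IsGE a := by
  rw [Vanish, eventually_atBot]
  constructor
  · rintro ⟨N, hN⟩
    exact ⟨N, (isGE_iff E N).2 fun i hi => hN i hi.le⟩
  · rintro ⟨a, ha⟩
    exact ⟨a - 1, fun i hi => isZero_of_isGE E a i (by omega)⟩

theorem tendsto_atTop (k : ℤ) : Tendsto (fun i : ℤ => i + k) atTop atTop :=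
  tendsto_atTop_add_const_right _ k tendsto_id

theorem tendsto_atBot (k : ℤ) : Tendsto (fun i : ℤ => i + k) atBot atBot :=
  tendsto_atBot_add_const_right _ k tendsto_id

theorem push_atBot {Y : Scheme.{u}} (U : Y.Opens) (_ : CompactSpace Y) (_ : QuasiSeparatedSpace Y)
    (hU : IsCompact (U : Set Y)) [DCoh.HasRpush U.ι] (F : DCoh.D (U : Scheme.{u})) (_ : DCoh.IsQCohD F)
    (h : Vanish atBot F) : Vanish atBot ((DCoh.Rpush U.ι).obj F) := by
  have : CompactSpace (U : Scheme.{u}) := isCompact_iff_compactSpace.1 hU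
  have : QuasiCompact U.ι := AlgebraicGeometry.quasiCompact_of_compactSpace U.ι
  obtain ⟨a, ha⟩ := (vanish_atBot_iff F).1 h
  exact (vanish_atBot_iff _).2 ⟨a, Groth.Agent.S11115.result U.ι F a⟩

theorem push_atTop {Y : Scheme.{u}} (U : Y.Opens) (_ : CompactSpace Y) (_ : QuasiSeparatedSpace Y)
    (hU : IsCompact (U : Set Y)) [DCoh.HasRpush U.ι] (F : DCoh.D (U : Scheme.{u})) (hF : DCoh.IsQCohD F)
    (h : Vanish atTop F) : Vanish atTop ((DCoh.Rpush U.ι).obj F) := by
  have : CompactSpace (U : Scheme.{u}) := isCompact_iff_compactSpace.1 hU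
  have : QuasiCompact U.ι := AlgebraicGeometry.quasiCompact_of_compactSpace U.ι
  obtain ⟨b, hb⟩ := (vanish_atTop_iff F).1 h
  obtain ⟨N, hN⟩ := Groth.Agent.S0999.result U.ι
  have := hb
  have hle : (F⟦b⟧).IsLE 0 := by
    rw [isLE_iff]
    exact fun i hi => (isZero_of_isLE F b (b + i) (by omega)).of_iso
      (((DerivedCategory.homologyFunctor _ 0).shiftIso b i (b + i) rfl).app F)
  obtain ⟨adj⟩ := exists_adj (X := Y) U.ι
  letI : (DCoh.Rpush U.ι).CommShift ℤ := adj.rightAdjointCommShift ℤ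
  refine (vanish_atTop_iff _).2 ⟨N + b, (isLE_iff _ _).2 fun i hi => ?_⟩
  have := hN (F⟦b⟧) (QC.isQCohD_shift hF b) hle (i - b) (by omega)
  refine this.of_iso ?_
  exact (((DerivedCategory.homologyFunctor _ 0).shiftIso b (i - b) i (by omega)).app _).symm ≪≫
    (homologyFunctor _ (i - b)).mapIso (((DCoh.Rpush U.ι).commShiftIso b).app F).symm

end Groth.Agent.PerfExt
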