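import Groth.Agent.PerfExt.Thick

/-!
# Extension of perfect objects with supports
-/

set_option autoImplicit false

universe u

open CategoryTheory CategoryTheory.Limits AlgebraicGeometry Pretriangulated DerivedCategory
open Groth.Agent.PerfTri Groth.Agent.CohDerLib.Kosz

attribute [local instance] HasDerivedCategory.standard

noncomputable section

namespace Groth.Agent.PerfExt

section Algebra

variable {A : Type u} [CommRing A]

theorem exists_factor' (fs : List A) (M C : DerivedCategory (ModuleCat.{u} A)) (hM : DRing.IsPerfect A M)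
    (hC : ∀ g ∈ fs, HTors g C) (φ : M ⟶ C) :
    ∃ (Z : DerivedCategory (ModuleCat.{u} A)) (q : M ⟶ Z) (ψ : Z ⟶ C),
      DRing.IsPerfect A Z ∧ q ≫ ψ = φ ∧ (∀ g ∈ fs, HTors g Z) ∧ ∀ x, HTors x M → HTors x Z := by
  induction fs with
  | nil => exact ⟨M, 𝟙 M, φ, hM, Category.id_comp φ, by simp, fun _ h => h⟩
  | cons g l ih =>
    obtain ⟨Z, q, ψ, hZ, hq, hl, hx'⟩ := ih fun x hx => hC x (List.mem_cons_of_mem _ hx)
    obtain ⟨k, hk⟩ := torsHom_perfect Z hZ C (hC g List.mem_cons_self) ψ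
    obtain ⟨Z', a, b, hT⟩ := distinguished_cocone_triangle (g ^ k • 𝟙 Z)
    obtain ⟨ψ', hψ'⟩ := Triangle.yoneda_exact₂ _ hT ψ
      ((Linear.smul_comp _ _ _ _ _ _).trans ((congrArg _ (Category.id_comp ψ)).trans hk))
    refine ⟨Z', q ≫ a, ψ', Groth.Agent.DRing.Perfect.perfect_two_of_three hT |>.1 hZ hZ, ?_, ?_,
      fun x hx => hTors_cone _ hT x (hx' x hx) (hx' x hx)⟩
    · exact (Category.assoc q a ψ').trans ((congrArg (q ≫ ·) hψ'.symm).trans hq)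
    · intro x hx
      rcases List.mem_cons.1 hx with rfl | hx
      · exact hTors_cone_pow x k a b hT
      · exact hTors_cone _ hT x (hl x hx) (hl x hx)

theorem hTors_first (T : Triangle (DerivedCategory (ModuleCat.{u} A))) (hT : T ∈ distinguishedTriangles) (g : A)
    (h₂ : HTors g T.obj₂) (h₃ : HTors g T.obj₃) : HTors g T.obj₁ := by
  intro m x
  obtain ⟨k, hk⟩ := h₂ m (((homologyFunctor (ModuleCat.{u} A) m).map T.mor₁).hom x)
  obtain ⟨z, hz⟩ := (ShortComplex.moduleCat_exact_iff _).1 (HomologySequence.exact₁ T hT (m - 1) m (by omega))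
    (g ^ k • x) ((((homologyFunctor (ModuleCat.{u} A) m).map T.mor₁).hom.map_smul _ _).trans hk)
  obtain ⟨j, hj⟩ := h₃ (m - 1) z
  refine ⟨j + k, ?_⟩
  rw [pow_add, mul_smul, ← hz]
  exact ((HomologySequence.δ T (m - 1) m (by omega)).hom.map_smul _ _).symm.trans
    ((congrArg _ hj).trans (map_zero _))

end Algebra

/-- Thomason's trick, abstractly -/
theorem trick {X : Scheme.{u}} (P : DCoh.D X → Prop) (hiso : ∀ {G G'}, (G ≅ G') → P G → P G')
    (hcone : ∀ S : Triangle (DCoh.D X), S ∈ distinguishedTriangles → P S.obj₁ → P S.obj₂ → P S.obj₃)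
    (F : DCoh.D X) [HasBinaryBiproduct F (F⟦(1 : ℤ)⟧)]
    (G : DCoh.D X) (i : F ⟶ G) (r : G ⟶ F) (hG : P G) (hir : i ≫ r = 𝟙 F) : P (F ⊞ F⟦(1 : ℤ)⟧) := by
  obtain ⟨F'', s, δ, hs⟩ := distinguished_cocone_triangle₁ r
  have : IsSplitEpi r := IsSplitEpi.mk' ⟨i, hir⟩
  have hδ : δ = 0 := (cancel_epi r).1 (((comp_distTriang_mor_zero₂₃ _ hs) : r ≫ δ = 0).trans comp_zero.symm)
  have : Mono s := Triangle.mono₁ _ hs hδ
  obtain ⟨q, hq⟩ : ∃ q : G ⟶ F'', 𝟙 G - r ≫ i = q ≫ s :=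
    Triangle.coyoneda_exact₂ _ hs (𝟙 G - r ≫ i)
      (show (𝟙 G - r ≫ i) ≫ r = 0 by simp [hir])
  have hsr : s ≫ r = 0 := comp_distTriang_mor_zero₁₂ _ hs
  have hsq : s ≫ q = 𝟙 F'' := (cancel_mono s).1 (by
    rw [Category.assoc, ← hq]; simp [reassoc_of% hsr])
  obtain ⟨K, k, e, hk⟩ := distinguished_cocone_triangle₁ q
  have : IsSplitEpi q := IsSplitEpi.mk' ⟨s, hsq⟩
  have he : e = 0 := (cancel_epi q).1 (((comp_distTriang_mor_zero₂₃ _ hk) : q ≫ e = 0).trans comp_zero.symm)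
  have : Mono k := Triangle.mono₁ _ hk he
  have hiq : i ≫ q = 0 := (cancel_mono s).1 (by
    rw [Category.assoc, ← hq]; simp [reassoc_of% hir])
  obtain ⟨a, ha⟩ : ∃ a : F ⟶ K, i = a ≫ k := Triangle.coyoneda_exact₂ _ hk i hiq
  have hkq : k ≫ q = 0 := comp_distTriang_mor_zero₁₂ _ hk
  let eK : F ≅ K :=
    { hom := a
      inv := k ≫ r
      hom_inv_id := by rw [← Category.assoc, ← ha, hir]
      inv_hom_id := (cancel_mono k).1 (by
        have h1 : k ≫ (𝟙 G - r ≫ i) = 0 := by rw [hq, ← Category.assoc, hkq, zero_comp]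
        rw [Preadditive.comp_sub, Category.comp_id, sub_eq_zero] at h1
        rw [Category.assoc, Category.id_comp, Category.assoc, ← ha]
        exact h1.symm) }
  obtain ⟨C, g, h, hC⟩ := distinguished_cocone_triangle (q ≫ s)
  let O := Triangulated.someOctahedron (rfl : q ≫ s = q ≫ s) (rot_of_distTriang _ hk) hs hC
  obtain ⟨b, -, -⟩ := exists_iso_binaryBiproduct_of_distTriang _ O.mem (by
    change δ ≫ _ = 0
    rw [hδ, zero_comp])
  have := HasBinaryBiproducts.of_hasBinaryProducts (C := DCoh.D X)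
  exact hiso (b ≪≫ biprod.mapIso ((shiftFunctor _ (1 : ℤ)).mapIso eK.symm) (Iso.refl F) ≪≫
    biprod.braiding _ _) (hcone _ hC hG hG)

variable {X : Scheme.{u}} [IsAffine X] (U : X.Opens) (hU : IsCompact (U : Set X))

/-- `D(A) ⥤ D(U)` model statement of the roof lemma -/
theorem lift_roof (hU : IsCompact (U : Set X)) (M M' : DerivedCategory (ModuleCat.{u} Γ(X, ⊤)))
    (hM : DRing.IsPerfect Γ(X, ⊤) M) (α : (TU U).obj M ⟶ (TU U).obj M') :
    ∃ (M₁ : DerivedCategory (ModuleCat.{u} Γ(X, ⊤))) (ν : M₁ ⟶ M) (γ : M₁ ⟶ M'),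
      DRing.IsPerfect Γ(X, ⊤) M₁ ∧ IsIso ((TU U).map ν) ∧ (TU U).map ν ≫ α = (TU U).map γ ∧
      ∀ x, HTors x M → HTors x M₁ := by
  have : CompactSpace (U : Scheme.{u}) := isCompact_iff_compactSpace.1 hU
  have : QuasiCompact U.ι := AlgebraicGeometry.quasiCompact_of_compactSpace U.ι
  have := KFlat.RPush.hasRpush U.ι
  obtain ⟨adj⟩ : Nonempty (DCoh.restrictD U.ι ⊣ DCoh.Rpush U.ι) :=
    DTrunc.DerivedPushAdj.nonempty_adjunction (DCoh.Rpush U.ι)
      ((DCoh.pushKh U.ι).totalRightDerivedUnit DerivedCategory.Qh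
        (HomotopyCategory.quasiIso (U : Scheme.{u}).Modules (ComplexShape.up ℤ)))
      (Scheme.Modules.restrictAdjunction U.ι)
  let F := T X
  obtain ⟨N, ⟨eN⟩⟩ := exists_iso_T X (CohDerLib.QC.isQCohD_Rpush U.ι _
    (CohDerLib.Kosz.isQCohD_restrictD U (isQCohD_T X M')))
  obtain ⟨fs, hfs⟩ := exists_isZero_iff X U hU
  obtain ⟨u, hu⟩ : ∃ u : M' ⟶ N, F.map u = adj.unit.app _ ≫ eN.inv := F.map_surjective _
  obtain ⟨φ, hφ⟩ : ∃ φ : M ⟶ N, F.map φ = adj.homEquiv _ _ α ≫ eN.inv := F.map_surjective _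
  obtain ⟨C, c, d, hT⟩ := Pretriangulated.distinguished_cocone_triangle u
  have hC : ∀ g ∈ fs, HTors g C := by
    refine (hfs C).1 ((Triangle.isZero₃_iff_isIso₁ _
      ((DCoh.restrictD U.ι).map_distinguished _ (F.map_distinguished _ hT))).2 ?_)
    have := CohDerLib.Kosz.isIso_restrict_unit U adj (F.obj M')
    change IsIso ((DCoh.restrictD U.ι).map (F.map u))
    rw [hu, Functor.map_comp]
    infer_instance
  obtain ⟨Z, q, ψ, hZp, hq, hZ, hZ'⟩ := exists_factor' fs M C hM hC (φ ≫ c)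
  obtain ⟨M₁, ν, b, hT'⟩ := distinguished_cocone_triangle₁ q
  have hν : ν ≫ φ ≫ c = 0 := by
    rw [← hq, ← Category.assoc]
    exact (congrArg (· ≫ ψ) (comp_distTriang_mor_zero₁₂ _ hT')).trans zero_comp
  obtain ⟨γ, hγ⟩ := Triangle.coyoneda_exact₂ _ hT (ν ≫ φ) ((Category.assoc ν φ c).trans hν)
  refine ⟨M₁, ν, γ, Groth.Agent.DRing.Perfect.perfect_two_of_three hT' |>.2.2 hM hZp,
    (Triangle.isZero₃_iff_isIso₁ _
        ((DCoh.restrictD U.ι).map_distinguished _ (F.map_distinguished _ hT'))).1 ((hfs Z).2 hZ), ?_,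
    fun x hx => hTors_first _ hT' x hx (hZ' x hx)⟩
  apply (adj.homEquiv _ _).injective
  refine (adj.homEquiv_naturality_left (F.map ν) α).trans ?_
  have h2 : adj.homEquiv _ _ ((DCoh.restrictD U.ι).map (F.map γ)) = F.map γ ≫ adj.unit.app (F.obj M') :=
    (adj.homEquiv_unit _ _ _).trans (adj.unit.naturality (F.map γ)).symm
  refine Eq.trans ?_ h2.symm
  have h1 : adj.homEquiv _ _ α = F.map φ ≫ eN.hom := by simp [hφ]
  have h3 : adj.unit.app (F.obj M') = F.map u ≫ eN.hom := by simp [hu]; rfl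
  refine (congrArg (F.map ν ≫ ·) h1).trans (Eq.trans ?_ (congrArg (F.map γ ≫ ·) h3).symm)
  exact (Category.assoc _ _ _).symm.trans ((congrArg (· ≫ eN.hom) (((F.map_comp ν φ).symm.trans
    (congrArg (fun ψ => F.map ψ) hγ)).trans (F.map_comp γ u))).trans (Category.assoc _ _ _))

/-- extendable with support away from `W` -/
def ExtT (W : X.Opens) (G : DCoh.D (U : Scheme.{u})) : Prop :=
  ∃ M : DerivedCategory (ModuleCat.{u} Γ(X, ⊤)), DRing.IsPerfect Γ(X, ⊤) M ∧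
    IsZero ((DCoh.restrictD W.ι).obj ((T X).obj M)) ∧ Nonempty ((TU U).obj M ≅ G)

theorem extT_cone (hU : IsCompact (U : Set X)) (W : X.Opens) (hW : IsCompact (W : Set X))
    (S : Triangle (DCoh.D (U : Scheme.{u}))) (hS : S ∈ distinguishedTriangles)
    (h₁ : ExtT U W S.obj₁) (h₂ : ExtT U W S.obj₂) : ExtT U W S.obj₃ := by
  obtain ⟨M, hM, hzM, ⟨e⟩⟩ := h₁
  obtain ⟨M', hM', hzM', ⟨e'⟩⟩ := h₂
  obtain ⟨gs, hgs⟩ := exists_isZero_iff X W hW
  obtain ⟨M₁, ν, γ, hM₁, hν, hγ, hx⟩ := lift_roof U hU M M' hM (e.hom ≫ S.mor₁ ≫ e'.inv)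
  obtain ⟨R, g, h, hT⟩ := distinguished_cocone_triangle γ
  refine ⟨R, Groth.Agent.DRing.Perfect.perfect_two_of_three hT |>.1 hM₁ hM',
    (hgs R).2 (fun x hxg => hTors_cone _ hT x (hx x ((hgs M).1 hzM x hxg)) ((hgs M').1 hzM' x hxg)), ⟨?_⟩⟩
  refine Triangle.π₃.mapIso (isoTriangleOfIso₁₂ _ S ((TU U).map_distinguished _ hT) hS
    (@asIso _ _ _ _ _ hν ≪≫ e) e' ?_)
  change (TU U).map γ ≫ e'.hom = ((TU U).map ν ≫ e.hom) ≫ S.mor₁
  rw [← hγ]
  simp [Category.assoc]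

/-- Thomason's trick with supports -/
theorem thomason_supp (hU : IsCompact (U : Set X)) (W : X.Opens) (hW : IsCompact (W : Set X))
    (F : DCoh.D (U : Scheme.{u})) (hF : DCoh.IsPerfect F) [HasBinaryBiproduct F (F⟦(1 : ℤ)⟧)]
    (hFW : IsZero ((DCoh.restrictD (U.ι ⁻¹ᵁ W).ι).obj F)) : ExtT U W (F ⊞ F⟦(1 : ℤ)⟧) := by
  obtain ⟨G, i, r, ⟨R, hR, ⟨eR⟩⟩, hir⟩ := exists_retract U hU F hF
  obtain ⟨M, ⟨eM⟩⟩ := exists_iso_T X (isQCohD_of_isPerfect hR)
  have : CompactSpace (U : Scheme.{u}) := isCompact_iff_compactSpace.1 hU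
  have : QuasiCompact U.ι := AlgebraicGeometry.quasiCompact_of_compactSpace U.ι
  have := KFlat.RPush.hasRpush U.ι
  have := KFlat.RPush.hasRpush (U.ι ∣_ W)
  obtain ⟨adj⟩ : Nonempty (DCoh.restrictD U.ι ⊣ DCoh.Rpush U.ι) :=
    DTrunc.DerivedPushAdj.nonempty_adjunction (DCoh.Rpush U.ι)
      ((DCoh.pushKh U.ι).totalRightDerivedUnit DerivedCategory.Qh
        (HomotopyCategory.quasiIso (U : Scheme.{u}).Modules (ComplexShape.up ℤ)))
      (Scheme.Modules.restrictAdjunction U.ι)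
  obtain ⟨N, ⟨eN⟩⟩ := exists_iso_T X (CohDerLib.QC.isQCohD_Rpush U.ι _ (isQCohD_of_isPerfect hF))
  obtain ⟨gs, hgs⟩ := exists_isZero_iff X W hW
  have hN : ∀ g ∈ gs, HTors g N := (hgs N).1
    (((Functor.map_isZero (DCoh.Rpush (U.ι ∣_ W)) hFW).of_iso
      ((KFlat.RPushBase.restrictRpushIso U.ι W).app F)).of_iso ((DCoh.restrictD W.ι).mapIso eN))
  let eG : (TU U).obj M ≅ G := (DCoh.restrictD U.ι).mapIso eM ≪≫ eR
  obtain ⟨φ, hφ⟩ : ∃ φ : M ⟶ N, (T X).map φ = adj.homEquiv _ _ (eG.hom ≫ r) ≫ eN.inv := (T X).map_surjective _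
  obtain ⟨Z, q, ψ, hZp, hq, hZ, -⟩ := exists_factor' gs M N
    ((isPerfect_T_iff X M).1 (Perfect.isPerfect_of_iso eM.symm hR)) hN φ
  refine trick (ExtT U W) (fun e ⟨M, hM, hz, ⟨e'⟩⟩ => ⟨M, hM, hz, ⟨e' ≪≫ e⟩⟩)
    (fun S hS => extT_cone U hU W hW S hS) F ((TU U).obj Z) (i ≫ eG.inv ≫ (TU U).map q)
    ((adj.homEquiv _ _).symm ((T X).map ψ ≫ eN.hom)) ⟨Z, hZp, (hgs Z).2 hZ, ⟨Iso.refl _⟩⟩ ?_
  rw [Category.assoc, Category.assoc]
  refine Eq.trans ?_ hir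
  refine congrArg (i ≫ ·) ?_
  rw [← Iso.cancel_iso_hom_left eG, Iso.hom_inv_id_assoc]
  refine (adj.homEquiv_naturality_left_symm _ _).symm.trans ?_
  rw [← Category.assoc, ← Functor.map_comp, hq, hφ, Category.assoc, Iso.inv_hom_id, Category.comp_id,
    Equiv.symm_apply_apply]

end Groth.Agent.PerfExt
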